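import Cfsg.Agent.Lib.H95.O8NdD

/-!
Maximality of the stabilisers of non-degenerate subspaces in `Om Q`: dimension seven, subspaces of
dimension three and four.
-/
set_option autoImplicit false

namespace H95.Nd7

open Module QuadraticMap H48.QuadSplit H48.QuadWitt H95.OGeo H7.OA H7.OABridge H7.OAPar H7.OANd
open H95.O8Nd (pUW span_hyp sing_perp)
open scoped commutatorElement

variable {F V : Type*} [Field F] [AddCommGroup V] [Module F V] {Q : QuadraticForm F V}

/-- the standing situation -/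
structure Sit7 (Q : QuadraticForm F V) (W : Submodule F V) (M : Subgroup (V ≃ₗ[F] V)) : Prop where
  nd : ND Q
  ndW : ND (Q.restrict W)
  odd : (2 : F) ≠ 0
  V7 : finrank F V = 7
  W3 : finrank F W = 3
  stab : ∀ g ∈ Om Q, Stab W g → g ∈ M
  le : M ≤ Om Q

variable [Finite F] [FiniteDimensional F V]
variable {W : Submodule F V} {M : Subgroup (V ≃ₗ[F] V)}

omit [Finite F] in
lemma Sit7.ndU (S : Sit7 Q W M) : ND (Q.restrict (orth Q W)) := nd_orth S.nd S.ndW

omit [Finite F] in
lemma Sit7.U4 (S : Sit7 Q W M) : finrank F (orth Q W) = 4 := by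
  have h := finrank_orth S.nd W
  have h1 := S.W3
  have h2 := S.V7
  omega

omit [Finite F] [FiniteDimensional F V] in
lemma Sit7.leO (S : Sit7 Q W M) : M ≤ O Q := S.le.trans (Om_le Q)

lemma Sit7.hasU (S : Sit7 Q W M) {u w : V} (hu : u ∈ orth Q W) (hw : w ∈ orth Q W) (hu0 : Q u = 0)
    (huw : polar Q u w = 0) : Has Q M u w := by
  obtain ⟨g, hg, hgx⟩ := full_Om S.nd (by rw [S.V7]; norm_num) hu0 w huw
  refine ⟨g, S.stab g hg (stab_of fun y hy => ?_), hgx⟩
  rw [hgx, sgF, hu y hy, hw y hy]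
  simpa using hy

lemma Sit7.hasW (S : Sit7 Q W M) {u w : V} (hu : u ∈ W) (hw : w ∈ W) (hu0 : Q u = 0)
    (huw : polar Q u w = 0) : Has Q M u w := by
  obtain ⟨g, hg, hgx⟩ := full_Om S.nd (by rw [S.V7]; norm_num) hu0 w huw
  refine ⟨g, S.stab g hg (stab_of fun y hy => ?_), hgx⟩
  rw [hgx, sgF]
  exact W.sub_mem (W.add_mem hy (W.smul_mem _ hw)) (W.smul_mem _ hu)

omit [Finite F] [FiniteDimensional F V] in
lemma Sit7.notMem (S : Sit7 Q W M) {x : V} (hx : x ∈ W) (hx0 : x ≠ 0) : x ∉ orth Q W := by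
  intro h
  exact hx0 (congrArg Subtype.val (S.ndW ⟨x, hx⟩ fun y => by
    rw [polar_restrict, p_comm]; exact h y y.2))

omit [Finite F] [FiniteDimensional F V] in
lemma Sit7.notMem' (S : Sit7 Q W M) {x : V} (hx : x ∈ orth Q W) (hx0 : x ≠ 0) : x ∉ W :=
  fun h => S.notMem h hx0 hx

/-- correction inside `U`, fixing a singular vector -/
lemma Sit7.corr (S : Sit7 Q W M) {a : V} (ha : a ∈ orth Q W) (ha0 : Q a = 0) (han : a ≠ 0) {g : V ≃ₗ[F] V}
    (hg : g ∈ O Q) : ∃ d ∈ O Q, (∀ x ∈ W, d x = x) ∧ d a = a ∧ g * d ∈ Om Q := by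
  obtain ⟨⟨v, hvU⟩, hv, hav⟩ := exists_partner S.ndU (v := ⟨a, ha⟩)
    (fun h => han (congrArg Subtype.val h)) ha0
  have hav' : polar Q a v = 1 := hav
  let K : Subgroup (V ≃ₗ[F] V) :=
    { carrier := {g | g ∈ O Q ∧ ∃ d ∈ O Q, (∀ x ∈ W, d x = x) ∧ d a = a ∧ g * d ∈ Om Q}
      one_mem' := ⟨(O Q).one_mem, 1, (O Q).one_mem, fun x _ => rfl, rfl, by rw [one_mul]; exact (Om Q).one_mem⟩
      mul_mem' := by
        rintro g g' ⟨hg, d, hd, d1, d2, d3⟩ ⟨hg', d', hd', d1', d2', d3'⟩
        refine ⟨(O Q).mul_mem hg hg', d' * d, (O Q).mul_mem hd' hd, fun x hx => ?_, ?_, ?_⟩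
        · rw [LinearEquiv.mul_apply, d1 x hx, d1' x hx]
        · rw [LinearEquiv.mul_apply, d2, d2']
        · have h1 := conj_Om ((O Q).inv_mem hd) d3'
          have h2 := (Om Q).mul_mem d3 h1
          have e : g * d * (d⁻¹ * (g' * d') * d⁻¹⁻¹) = g * g' * (d' * d) := by group
          rwa [e] at h2
      inv_mem' := by
        rintro g ⟨hg, d, hd, d1, d2, d3⟩
        refine ⟨(O Q).inv_mem hg, d⁻¹, (O Q).inv_mem hd, fun x hx => ?_, ?_, ?_⟩
        · conv_lhs => rw [← d1 x hx]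
          exact inv_apply_apply d x
        · conv_lhs => rw [← d2]
          exact inv_apply_apply d a
        · have h1 := conj_Om hd ((Om Q).inv_mem d3)
          have e : d * (g * d)⁻¹ * d⁻¹ = g⁻¹ * d⁻¹ := by group
          rwa [e] at h1 }
  have hK : O Q ≤ K := by
    apply H17.OrthAbs.O_le_of_refl_mem_odd S.odd Q (nd_iff.1 S.nd)
    intro v' hv'
    have hU4 := S.U4
    obtain ⟨⟨n, hn⟩, n1, n2, n3⟩ := H7.OLow.univ S.ndU S.odd (by omega) (v := ⟨a, ha⟩) (w := ⟨v, hvU⟩) ha0
      (by show polar Q a v ≠ 0; rw [hav']; exact one_ne_zero) (Q v')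
    have n1' : polar Q n a = 0 := n1
    have n3' : Q n = Q v' := n3
    have hn0 : Q n ≠ 0 := by rw [n3']; exact hv'
    have hne : ∀ z : V, Q z ≠ 0 → z ∉ (⊥ : Submodule F V) := by
      intro z hz h
      rw [Submodule.mem_bot] at h
      rw [h, QuadraticMap.map_zero] at hz
      exact hz rfl
    obtain ⟨k, hk, -, hkv⟩ := witt_step (nd_iff.1 S.nd) ⊥ v' n (hne _ hv') (hne _ hn0) n3'.symm
      (fun w hw => by rw [Submodule.mem_bot] at hw; rw [hw, p_zero', p_zero'])
    have hkO : k ∈ O Q := mem_O.2 hk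
    refine ⟨H17.OrthAbs.refl_mem_O Q v' hv', H17.OrthAbs.refl Q n hn0, H17.OrthAbs.refl_mem_O Q n hn0,
      fun x hx => ?_, ?_, ?_⟩
    · exact H17.OrthAbs.refl_fix Q n hn0 x (by first | exact hn x hx | (rw [p_comm]; exact hn x hx))
    · exact H17.OrthAbs.refl_fix Q n hn0 a (by first | exact n1' | (rw [p_comm]; exact n1'))
    · have h1 : k * H17.OrthAbs.refl Q v' hv' * k⁻¹ = H17.OrthAbs.refl Q n hn0 := by
        apply LinearEquiv.ext
        intro x
        show k (H17.OrthAbs.refl Q v' hv' (k⁻¹ x)) = _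
        rw [H17.OrthAbs.refl_apply, H17.OrthAbs.refl_apply, map_sub, map_smul, hkv, apply_inv_apply, n3']
        have h2 : polar Q v' (k⁻¹ x) = polar Q n x := by
          rw [← O_polar hkO, hkv, apply_inv_apply]
        have h3 : polar Q (k⁻¹ x) v' = polar Q x n := by
          rw [p_comm, h2, p_comm]
        first
          | rw [h2]
          | rw [h3]
      have h2 : H17.OrthAbs.refl Q v' hv' * H17.OrthAbs.refl Q n hn0 =
          ⁅H17.OrthAbs.refl Q v' hv', k⁆ := by
        rw [← h1, commutatorElement_def, H17.OrthAbs.refl_inv]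
        group
      rw [h2]
      exact Subgroup.commutator_mem_commutator (H17.OrthAbs.refl_mem_O Q v' hv') hkO
  exact (hK hg).2

/-- lifting an isometry: stabilise `W`, keep a given action on a singular vector of `U` -/
lemma Sit7.adj (S : Sit7 Q W M) {g : V ≃ₗ[F] V} (hg : g ∈ O Q) (hgW : ∀ x ∈ W, g x ∈ W) {a : V}
    (ha : a ∈ orth Q W) (ha0 : Q a = 0) (han : a ≠ 0) : ∃ h ∈ M, h a = g a ∧ ∀ x ∈ W, h x = g x := by
  obtain ⟨d, hd, hdx, hda, hgd⟩ := S.corr ha ha0 han hg
  have k : ∀ x ∈ W, (g * d) x = g x := by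
    intro x hx
    rw [LinearEquiv.mul_apply, hdx x hx]
  refine ⟨g * d, S.stab _ hgd (stab_of fun x hx => ?_), ?_, k⟩
  · rw [k x hx]; exact hgW x hx
  · rw [LinearEquiv.mul_apply, hda]

/-- the vectors `w ∈ W` such that the Siegel element `(u, w)` is in `M` -/
lemma Sit7.exists_R (S : Sit7 Q W M) {u : V} (hu : u ∈ orth Q W) (hu0 : Q u = 0) (hun : u ≠ 0) :
    ∃ R : Submodule F V, R ≤ W ∧ ∀ w, w ∈ R ↔ w ∈ W ∧ Has Q M u w := by
  have huw : ∀ w ∈ W, polar Q u w = 0 := fun w hw => by rw [p_comm]; exact hu w hw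
  refine ⟨{ carrier := {w | w ∈ W ∧ Has Q M u w}, add_mem' := ?_, zero_mem' := ?_, smul_mem' := ?_ },
    fun w hw => hw.1, fun w => Iff.rfl⟩
  · rintro a b ⟨ha, ha'⟩ ⟨hb, hb'⟩
    exact ⟨W.add_mem ha hb, ha'.mul hb' hu0 (huw a ha) (huw b hb)⟩
  · exact ⟨W.zero_mem, has_zero⟩
  · rintro c w ⟨hw, hw'⟩
    refine ⟨W.smul_mem c hw, ?_⟩
    by_cases hc : c = 0
    · rw [hc, zero_smul]; exact has_zero
    obtain ⟨⟨v, hvU⟩, hv, huv⟩ := exists_partner S.ndU (v := ⟨u, hu⟩)
      (fun h => hun (congrArg Subtype.val h)) hu0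
    have hv' : Q v = 0 := hv
    have huv' : polar Q u v = 1 := huv
    obtain ⟨t, ht, htx⟩ := exists_scaling (nd_iff.1 S.nd) u v hu0 hv' huv' c hc
    have htW : ∀ x ∈ W, t x = x := by
      intro x hx
      rw [htx, hu x hx, hvU x hx]; simp
    have htu : t u = c • u := by
      rw [htx, huv', p_self, hu0]
      module
    obtain ⟨h, hh, h1, h3⟩ := S.adj (g := t) ht (fun x hx => by rw [htW x hx]; exact hx) hu hu0 hun
    have h4 := hw'.conj hh (S.leO hh)
    rw [h1, htu, h3 w hw, htW w hw, has_scale] at h4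
    exact h4

/-- one non-zero vector gives everything -/
lemma Sit7.full_of (S : Sit7 Q W M)
    {u r : V} (hu : u ∈ orth Q W) (hu0 : Q u = 0) (hun : u ≠ 0) (hr : r ∈ W) (hr0 : r ≠ 0)
    (h : Has Q M u r) : Full Q M u := by
  obtain ⟨R, hRW, hR⟩ := S.exists_R hu hu0 hun
  have hRW' : R = W := by
    refine irr S.ndW hRW ?_ ?_ (fun h => by have := S.W3; omega)
    · intro hbot
      have : r ∈ R := (hR r).2 ⟨hr, h⟩
      rw [hbot] at this
      exact hr0 ((Submodule.mem_bot F).1 this)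
    · intro x hx y hy hx0 hy0 hxy
      have hxW := hRW hx
      rw [hR] at hx ⊢
      refine ⟨hy, ?_⟩
      obtain ⟨g, hg, hgU, hgx⟩ := witt_step (nd_iff.1 S.nd) (orth Q W) x y (S.notMem hxW hx0)
        (S.notMem hy hy0) hxy (fun w hw => by rw [hw x hxW, hw y hy])
      have hgW : ∀ z ∈ W, g z ∈ W := by
        intro z hz
        rw [← orth_orth S.nd W]
        intro w hw
        have hw' : w = g w := (hgU w hw).symm
        rw [hw', O_polar (mem_O.2 hg), p_comm]
        exact hw z hz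
      obtain ⟨h', hh', h1, h3⟩ := S.adj (g := g) hg hgW hu hu0 hun
      have h4 := hx.2.conj hh' (S.leO hh')
      rw [h1, hgU u hu, h3 x hxW, hgx] at h4
      exact h4
  intro w hw
  obtain ⟨e, he, -⟩ := ortho_split S.ndW
  obtain ⟨⟨w1, w2⟩, rfl⟩ := e.surjective w
  rw [he] at hw ⊢
  have huw1 : polar Q u (w1 : V) = 0 := by rw [p_comm]; exact hu w1 w1.2
  have huw2 : polar Q u (w2 : V) = 0 := by
    rw [p_add', huw1, zero_add] at hw; exact hw
  have h1 : Has Q M u (w1 : V) := by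
    have : (w1 : V) ∈ R := by rw [hRW']; exact w1.2
    exact ((hR _).1 this).2
  exact h1.mul (S.hasU hu w2.2 hu0 huw2) hu0 huw1 huw2

/-- one full centre in `U` suffices -/
lemma Sit7.top_of_full (S : Sit7 Q W M) {u : V} (hu : u ∈ orth Q W) (hu0 : Q u = 0) (hun : u ≠ 0)
    (h : Full Q M u) : Om Q ≤ M := by
  obtain ⟨⟨v, hvU⟩, hv, huv⟩ := exists_partner S.ndU (v := ⟨u, hu⟩)
    (fun h => hun (congrArg Subtype.val h)) hu0
  have hv' : Q v = 0 := hv
  have huv' : polar Q u v = 1 := huv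
  have hv0 : v ≠ 0 := by
    rintro rfl
    rw [p_zero'] at huv'
    exact zero_ne_one huv'
  obtain ⟨g, hg, hgW, hgx⟩ := witt_step (nd_iff.1 S.nd) W u v (S.notMem' hu hun)
    (S.notMem' hvU hv0) (by rw [hu0, hv']) (fun w hw => by rw [p_comm, hu w hw, p_comm, hvU w hw])
  obtain ⟨h', hh', h1, -⟩ := S.adj (g := g) hg (fun x hx => by rw [hgW x hx]; exact hx) hu hu0 hun
  have h2 := h.conj hh' (S.leO hh')
  rw [h1, hgx] at h2
  exact le_of_full_one S.nd (by rw [S.V7]; norm_num) hu0 hv' huv' h h2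

/-- a Siegel element with centre in `U` and a component in `W` suffices -/
lemma Sit7.top_of (S : Sit7 Q W M)
    {u y r : V} (hu : u ∈ orth Q W) (hu0 : Q u = 0) (hun : u ≠ 0) (hy : y ∈ orth Q W) (huy : polar Q u y = 0)
    (hr : r ∈ W) (hr0 : r ≠ 0) (h : Has Q M u (y + r)) : Om Q ≤ M := by
  have hur : polar Q u r = 0 := by rw [p_comm]; exact hu r hr
  have h1 := h.sub (S.hasU hu hy hu0 huy) hu0 (by rw [p_add', huy, hur, add_zero]) huy
  rw [add_sub_cancel_left] at h1
  exact S.top_of_full hu hu0 hun (S.full_of hu hu0 hun hr hr0 h1)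

/-- splitting a Siegel element with singular components -/
lemma split {u1 u2 n : V} (h1 : Q u1 = 0) (h2 : Q u2 = 0) (h12 : polar Q u1 u2 = 0) (hn1 : polar Q n u1 = 0)
    (hn2 : polar Q n u2 = 0) (h : Has Q M (u1 + u2) n) (h' : Has Q M u2 n) :
    Has Q M u1 (n - Q n • u2) := by
  obtain ⟨g1, hg1, e1⟩ := h
  obtain ⟨g2, hg2, e2⟩ := h'
  refine ⟨g1 * g2⁻¹, M.mul_mem hg1 (M.inv_mem hg2), fun x => ?_⟩
  obtain ⟨y, rfl⟩ := g2.surjective x
  show g1 (g2⁻¹ (g2 y)) = _
  rw [inv_apply_apply, e1, e2]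
  have hn1' : polar Q u1 n = 0 := by rw [p_comm, hn1]
  have hn2' : polar Q u2 n = 0 := by rw [p_comm, hn2]
  have h21 : polar Q u2 u1 = 0 := by rw [p_comm, h12]
  simp only [sgF, p_add, p_sub, p_smul, p_add', p_sub', p_smul', p_self, Q_sub, Q_smul, h1, h2, h12, h21, hn1, hn2,
    hn1', hn2', mul_zero, add_zero, sub_zero, zero_add, zero_sub]
  module

/-- **Maximality** -/
theorem Sit7.maximal (S : Sit7 Q W M) (hne : ∃ g ∈ M, ¬ Stab W g) : Om Q ≤ M := by
  obtain ⟨g, hg, hgS⟩ := hne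
  have hgO := S.leO hg
  have hU4 := S.U4
  have hW3 := S.W3
  have hV7 := S.V7
  obtain ⟨T, hT1, hT2⟩ := exists_proj (isCompl_orth S.ndW).symm
  have partner : ∀ t ∈ orth Q W, Q t = 0 → t ≠ 0 → ∃ f ∈ orth Q W, Q f = 0 ∧ polar Q t f = 1 := by
    intro t ht htQ ht0
    obtain ⟨⟨v, hvU⟩, hv, htv⟩ := exists_partner S.ndU (v := ⟨t, ht⟩) (fun h => ht0 (congrArg Subtype.val h)) htQ
    exact ⟨v, hvU, hv, htv⟩
  -- a vector with both components
  obtain ⟨t1, ht1, ht1Q, hgt, hgt'⟩ : ∃ t ∈ orth Q W, Q t = 0 ∧ g t ∉ orth Q W ∧ g t ∉ W := by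
    by_contra hcon
    push Not at hcon
    obtain ⟨t1, ht1, ht1Q, hgt⟩ : ∃ t ∈ orth Q W, Q t = 0 ∧ g t ∉ orth Q W := by
      by_contra h
      push Not at h
      apply hgS
      obtain ⟨e, he, he0, heQ⟩ := exists_sing Q (U := orth Q W) (by omega)
      obtain ⟨f, hf, hfQ, hef⟩ := partner e he heQ he0
      have hgU : orth Q W ≤ (orth Q W).comap (g : V →ₗ[F] V) :=
        span_hyp he hf heQ hfQ hef _ (fun z hz hzQ => h z hz hzQ)
      apply stab_of
      intro x hx
      rw [← orth_orth S.nd W]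
      intro w hw
      have h2 : ∃ w' ∈ orth Q W, g w' = w := by
        have h3 : (orth Q W).map (g : V →ₗ[F] V) = orth Q W := by
          apply Submodule.eq_of_le_of_finrank_eq
          · rintro _ ⟨y, hy, rfl⟩; exact hgU hy
          · exact LinearEquiv.finrank_map_eq g (orth Q W)
        have h4 : w ∈ (orth Q W).map (g : V →ₗ[F] V) := by rw [h3]; exact hw
        obtain ⟨w', hw', h5⟩ := h4
        exact ⟨w', hw', h5⟩
      obtain ⟨w', hw', rfl⟩ := h2
      rw [O_polar hgO, p_comm]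
      exact hw' x hx
    have ht10 : t1 ≠ 0 := by
      rintro rfl
      rw [map_zero] at hgt
      exact hgt (orth Q W).zero_mem
    have key : ∀ z ∈ orth Q W, Q z = 0 → ∀ z' : V, g z' ∈ W → polar Q z z' ≠ 0 → g z ∈ W := by
      intro z hz hzQ z' hz' hzz
      by_cases h1 : g z ∈ orth Q W
      · exfalso
        apply hzz
        rw [← O_polar hgO]
        exact pUW h1 hz'
      · exact hcon z hz hzQ h1
    have h1 := hcon t1 ht1 ht1Q hgt
    obtain ⟨f, hf, hfQ, htf⟩ := partner t1 ht1 ht1Q ht10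
    have h2 := key f hf hfQ t1 h1 (by rw [p_comm, htf]; exact one_ne_zero)
    have h3 : orth Q W ≤ W.comap (g : V →ₗ[F] V) := by
      refine span_hyp ht1 hf ht1Q hfQ htf _ (fun z hz hzQ => ?_)
      show g z ∈ W
      by_cases h4 : polar Q z t1 = 0
      · by_cases h5 : polar Q z f = 0
        · have h6 := key (z + t1) ((orth Q W).add_mem hz ht1) (by rw [Q_add, hzQ, ht1Q, h4]; ring) f h2
            (by rw [p_add, h5, htf, zero_add]; exact one_ne_zero)
          have h7 := W.sub_mem h6 h1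
          rwa [map_add, add_sub_cancel_right] at h7
        · exact key z hz hzQ f h2 h5
      · exact key z hz hzQ t1 h1 h4
    have h4 := Submodule.finrank_mono h3
    have h5 : finrank F (W.comap (g : V →ₗ[F] V)) = finrank F W := by
      have h6 : (W.comap (g : V →ₗ[F] V)) = W.map (g.symm : V →ₗ[F] V) := by
        ext x
        constructor
        · intro hx
          exact ⟨g x, hx, g.symm_apply_apply x⟩
        · rintro ⟨y, hy, rfl⟩
          show g (g.symm y) ∈ W
          rw [LinearEquiv.apply_symm_apply]; exact hy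
      rw [h6]
      exact LinearEquiv.finrank_map_eq g.symm W
    omega
  have ht10 : t1 ≠ 0 := by
    rintro rfl
    rw [map_zero] at hgt
    exact hgt (orth Q W).zero_mem
  obtain ⟨aU, haUd⟩ : ∃ x, x = T (g t1) := ⟨_, rfl⟩
  obtain ⟨aW, haWd⟩ : ∃ x, x = g t1 - T (g t1) := ⟨_, rfl⟩
  have haU : aU ∈ orth Q W := by rw [haUd]; exact hT1 _
  have haW : aW ∈ W := by rw [haWd]; exact hT2 _
  have ea : g t1 = aU + aW := by rw [haUd, haWd]; abel
  have haU0 : aU ≠ 0 := by
    intro h0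
    rw [ea, h0, zero_add] at hgt'
    exact hgt' haW
  have haW0 : aW ≠ 0 := by
    intro h0
    rw [ea, h0, add_zero] at hgt
    exact hgt haU
  have haQ : Q (aU + aW) = 0 := by rw [← ea, mem_O.1 hgO, ht1Q]
  have hval : Q aU + Q aW = 0 := by
    rw [Q_add, pUW haU haW] at haQ
    linear_combination haQ
  -- the second vector
  have exx : ∀ u : V, ∃ x ∈ orth Q W, polar Q t1 x = 0 ∧ polar Q (g x) u = 0 ∧ ∀ c : F, x ≠ c • t1 := by
    intro u
    obtain ⟨Z, hZ⟩ : ∃ Z : Submodule F V, Z = W ⊔ Submodule.span F (Set.range ![t1, g⁻¹ u]) := ⟨_, rfl⟩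
    have h1 := finrank_orth S.nd Z
    have h2 := Submodule.finrank_add_le_finrank_add_finrank W (Submodule.span F (Set.range ![t1, g⁻¹ u]))
    rw [← hZ] at h2
    have h3 := H7.OLow.finrank_range_le (F := F) ![t1, g⁻¹ u]
    have h4 : ¬ orth Q Z ≤ Submodule.span F {t1} := by
      intro h5
      have h6 := Submodule.finrank_mono h5
      rw [finrank_span_singleton ht10] at h6
      omega
    obtain ⟨x, hx, hx'⟩ := Set.not_subset.1 h4
    have m1 : ∀ i : Fin 2, (![t1, g⁻¹ u] : Fin 2 → V) i ∈ Z := fun i => by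
      rw [hZ]; exact Submodule.mem_sup_right (Submodule.subset_span ⟨i, rfl⟩)
    refine ⟨x, fun y hy => hx y (by rw [hZ]; exact Submodule.mem_sup_left hy), hx t1 (m1 0), ?_, ?_⟩
    · have h7 : polar Q (g⁻¹ u) x = 0 := hx _ (m1 1)
      rw [p_comm, ← h7, ← O_polar hgO (g⁻¹ u) x, apply_inv_apply]
    · rintro c rfl
      exact hx' (Submodule.mem_span_singleton.2 ⟨c, rfl⟩)
  -- data of the second vector
  have dat : ∀ u : V, ∃ x ∈ orth Q W, ∃ bU ∈ orth Q W, ∃ bW ∈ W, g x = bU + bW ∧ polar Q t1 x = 0 ∧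
      polar Q (bU + bW) u = 0 ∧ Has Q M (aU + aW) (bU + bW) ∧ polar Q (aU + aW) (bU + bW) = 0 ∧
      ∀ c : F, bU + bW ≠ c • (aU + aW) := by
    intro u
    obtain ⟨x, hx, x1, x2, x3⟩ := exx u
    have e : g x = T (g x) + (g x - T (g x)) := by abel
    refine ⟨x, hx, T (g x), hT1 _, g x - T (g x), hT2 _, e, x1, by rw [← e]; exact x2, ?_, ?_, ?_⟩
    · rw [← e, ← ea]; exact (S.hasU ht1 hx ht1Q x1).conj hg hgO
    · rw [← e, ← ea, O_polar hgO, x1]
    · intro c hc
      rw [← e, ← ea, ← map_smul] at hc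
      exact x3 c (g.injective hc)
  have sepU : ∀ b ∈ orth Q W, ∀ u ∈ orth Q W, (∀ c : F, b ≠ c • u) → ∃ w ∈ orth Q W, polar Q u w = 0 ∧
      polar Q b w ≠ 0 := by
    intro b hb u hu hbu
    have hbs : (⟨b, hb⟩ : orth Q W) ∉ Submodule.span F {(⟨u, hu⟩ : orth Q W)} := by
      rw [Submodule.mem_span_singleton]
      rintro ⟨c, h1⟩
      exact hbu c (congrArg Subtype.val h1).symm
    obtain ⟨⟨w, hw⟩, hw1, hw2⟩ := sep S.ndU hbs
    exact ⟨w, hw, hw1 _ (Submodule.mem_span_singleton_self _), hw2⟩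
  by_cases hQ : Q aU = 0
  · -- singular components
    have hQW : Q aW = 0 := by rw [hQ, zero_add] at hval; exact hval
    obtain ⟨x, hx, bU, hbU, bW, hbW, eb, -, hbu, hH, hab, hb⟩ := dat aU
    have hbu' : polar Q bU aU = 0 := by
      rw [p_add, p_comm Q bW aU, pUW haU hbW, add_zero] at hbu
      exact hbu
    by_cases hc : ∃ c : F, bU = c • aU
    · obtain ⟨c, hc⟩ := hc
      obtain ⟨b', hb'⟩ : ∃ b', b' = bW - c • aW := ⟨_, rfl⟩
      have e1 : b' = (bU + bW) + (-c) • (aU + aW) := by rw [hb', hc]; module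
      have hH' : Has Q M (aU + aW) b' := by rw [e1]; exact (has_add_u (M := M) haQ hab (-c)).2 hH
      have hb'W : b' ∈ W := by rw [hb']; exact W.sub_mem hbW (W.smul_mem _ haW)
      have hb'0 : b' ≠ 0 := by
        intro h0
        apply hb c
        rw [h0] at e1
        have e2 : bU + bW = c • (aU + aW) + ((bU + bW) + (-c) • (aU + aW)) := by module
        rw [e2, ← e1, add_zero]
      have hab' : polar Q (aU + aW) b' = 0 := by rw [e1, p_add', p_smul', p_self, haQ, hab]; ring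
      have hpU : polar Q b' aU = 0 := by rw [p_comm]; exact pUW haU hb'W
      have hpW : polar Q b' aW = 0 := by
        rw [p_add, pUW haU hb'W, zero_add, p_comm] at hab'
        exact hab'
      have h1 := split hQ hQW (pUW haU haW) hpU hpW hH' (S.hasW haW hb'W hQW (by rw [p_comm]; exact hpW))
      refine S.top_of haU hQ haU0 (orth Q W).zero_mem (p_zero' _ _) (W.sub_mem hb'W (W.smul_mem (Q b') haW)) ?_
        (by rw [zero_add]; exact h1)
      intro h0
      rw [sub_eq_zero] at h0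
      have h2 : Q b' = 0 := by
        rw [h0, Q_smul, hQW, mul_zero]
      rw [h2, zero_smul] at h0
      exact hb'0 h0
    · push Not at hc
      obtain ⟨w, hw, w1, w2⟩ := sepU bU hbU aU haU hc
      have h1 := (S.hasU haU hw hQ w1).comm hQ w1 hH S.leO
        (by rw [p_add', p_self, hQ, pUW haU haW]; ring) (by rw [p_comm]; exact hbu)
      have e1 : polar Q w (aU + aW) = 0 := by rw [p_add', p_comm Q w aU, w1, pUW hw haW, add_zero]
      have e2 : polar Q w (bU + bW) = polar Q bU w := by rw [p_add', p_comm Q w bU, pUW hw hbW, add_zero]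
      rw [e1, e2] at h1
      have e3 : (0 : F) • (bU + bW) - (polar Q bU w + Q (bU + bW) * 0) • (aU + aW) =
          (-(polar Q bU w)) • aU + (-(polar Q bU w)) • aW := by module
      rw [e3] at h1
      exact S.top_of haU hQ haU0 ((orth Q W).smul_mem _ haU) (by rw [p_smul', p_self, hQ]; ring)
        (W.smul_mem _ haW) (smul_ne_zero (neg_ne_zero.2 w2) haW0) h1
  · -- nonsingular components: a good singular vector
    obtain ⟨u, hu, hu0, huQ, hau, hun⟩ : ∃ u ∈ orth Q W, u ≠ 0 ∧ Q u = 0 ∧ polar Q aU u = 0 ∧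
        ¬ ∃ x ∈ orth Q W, polar Q t1 x = 0 ∧ g x = u := by
      by_contra hcon
      push Not at hcon
      obtain ⟨Z, hZ⟩ : ∃ Z : Submodule F V, Z = W ⊔ Submodule.span F {aU} := ⟨_, rfl⟩
      have mZ : ∀ z, z ∈ orth Q Z ↔ z ∈ orth Q W ∧ polar Q aU z = 0 := by
        intro z
        constructor
        · intro hz
          exact ⟨fun y hy => hz y (by rw [hZ]; exact Submodule.mem_sup_left hy),
            hz aU (by rw [hZ]; exact Submodule.mem_sup_right (Submodule.mem_span_singleton_self _))⟩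
        · rintro ⟨h1, h2⟩ y hy
          rw [hZ] at hy
          obtain ⟨y1, hy1, y2, hy2, rfl⟩ := Submodule.mem_sup.1 hy
          obtain ⟨c, rfl⟩ := Submodule.mem_span_singleton.1 hy2
          rw [p_add, h1 y1 hy1, p_smul, h2, mul_zero, add_zero]
      have h1 := finrank_orth S.nd Z
      have h2 := Submodule.finrank_add_le_finrank_add_finrank W (Submodule.span F {aU})
      rw [← hZ, finrank_span_singleton haU0] at h2
      obtain ⟨e, he, he0, heQ⟩ := exists_sing Q (U := orth Q Z) (by omega)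
      obtain ⟨he1, he2⟩ := (mZ e).1 he
      obtain ⟨f0, hf0, hf0Q, hef0⟩ := partner e he1 heQ he0
      obtain ⟨s, hs⟩ : ∃ s : F, s * (2 * Q aU) = polar Q aU f0 :=
        ⟨polar Q aU f0 / (2 * Q aU), div_mul_cancel₀ _ (mul_ne_zero S.odd hQ)⟩
      obtain ⟨f1, hf1⟩ : ∃ f1, f1 = f0 - s • aU := ⟨_, rfl⟩
      have hea : polar Q e aU = 0 := by rw [p_comm, he2]
      have k1 : polar Q e f1 = 1 := by rw [hf1, p_sub', p_smul', hef0, hea]; ring
      have k2 : polar Q aU f1 = 0 := by rw [hf1, p_sub', p_smul', p_self, ← hs]; ring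
      obtain ⟨f, hf⟩ : ∃ f, f = f1 - Q f1 • e := ⟨_, rfl⟩
      have k3 : polar Q e f = 1 := by rw [hf, p_sub', p_smul', p_self, heQ, k1]; ring
      have k4 : Q f = 0 := by rw [hf, Q_sub, Q_smul, p_smul', p_comm Q f1 e, k1, heQ]; ring
      have k5 : polar Q aU f = 0 := by rw [hf, p_sub', p_smul', k2, he2]; ring
      have hfZ : f ∈ orth Q Z := by
        rw [mZ]
        refine ⟨?_, k5⟩
        rw [hf, hf1]
        exact (orth Q W).sub_mem ((orth Q W).sub_mem hf0 ((orth Q W).smul_mem _ haU)) ((orth Q W).smul_mem _ he1)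
      obtain ⟨Y, hY⟩ : ∃ Y : Submodule F V, Y = orth Q (W ⊔ Submodule.span F {t1}) := ⟨_, rfl⟩
      have mY : ∀ z, z ∈ orth Q W → polar Q t1 z = 0 → z ∈ Y := by
        rintro z h1 h2
        rw [hY]
        intro y hy
        obtain ⟨y1, hy1, y2, hy2, rfl⟩ := Submodule.mem_sup.1 hy
        obtain ⟨c, rfl⟩ := Submodule.mem_span_singleton.1 hy2
        rw [p_add, h1 y1 hy1, p_smul, h2, mul_zero, add_zero]
      have hYfin : finrank F Y = 3 := by
        have h3 := finrank_orth S.nd (W ⊔ Submodule.span F {t1})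
        have h4 : W ⊓ Submodule.span F {t1} = ⊥ := by
          rw [Submodule.eq_bot_iff]
          rintro z ⟨hz1, hz2⟩
          obtain ⟨c, rfl⟩ := Submodule.mem_span_singleton.1 hz2
          by_contra h5
          exact S.notMem hz1 h5 ((orth Q W).smul_mem _ ht1)
        have h5 := Submodule.finrank_sup_add_finrank_inf_eq W (Submodule.span F {t1})
        rw [h4, finrank_bot, finrank_span_singleton ht10] at h5
        rw [hY]
        omega
      have h3 : orth Q Z ≤ Y.map (g : V →ₗ[F] V) := by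
        refine span_hyp he hfZ heQ k4 k3 _ (fun z hz hzQ => ?_)
        obtain ⟨hz1, hz2⟩ := (mZ z).1 hz
        by_cases hz0 : z = 0
        · rw [hz0]; exact Submodule.zero_mem _
        obtain ⟨x, hx1, hx2, hx3⟩ := hcon z hz1 hz0 hzQ hz2
        exact ⟨x, mY x hx1 hx2, hx3⟩
      have h4 : orth Q Z = Y.map (g : V →ₗ[F] V) := by
        apply Submodule.eq_of_le_of_finrank_le h3
        rw [LinearEquiv.finrank_map_eq g Y, hYfin]
        omega
      have h5 : g t1 ∈ orth Q Z := by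
        rw [h4]
        exact ⟨t1, mY t1 ht1 (by rw [p_self, ht1Q, mul_zero]), rfl⟩
      exact hgt ((mZ _).1 h5).1
    obtain ⟨x, hx, bU, hbU, bW, hbW, eb, hx1, hbu, hH, hab, hb⟩ := dat u
    have hua : polar Q u (aU + aW) = 0 := by rw [p_add', p_comm Q u aU, hau, pUW hu haW, add_zero]
    have hub : polar Q u (bU + bW) = 0 := by rw [p_comm]; exact hbu
    have hubU : polar Q u bU = 0 := by
      rw [p_add', pUW hu hbW, add_zero] at hub
      exact hub
    -- the commutators
    have main : ∀ w ∈ orth Q W, polar Q u w = 0 → ¬ Om Q ≤ M →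
        polar Q w aU • bW - (polar Q w bU + Q (bU + bW) * polar Q w aU) • aW = 0 := by
      intro w hw huw hno
      by_contra hr
      apply hno
      have h1 := (S.hasU hu hw huQ huw).comm huQ huw hH S.leO hua hub
      have e1 : polar Q w (aU + aW) = polar Q w aU := by rw [p_add', pUW hw haW, add_zero]
      have e2 : polar Q w (bU + bW) = polar Q w bU := by rw [p_add', pUW hw hbW, add_zero]
      rw [e1, e2] at h1
      have e3 : polar Q w aU • (bU + bW) - (polar Q w bU + Q (bU + bW) * polar Q w aU) • (aU + aW) =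
          (polar Q w aU • bU - (polar Q w bU + Q (bU + bW) * polar Q w aU) • aU) +
          (polar Q w aU • bW - (polar Q w bU + Q (bU + bW) * polar Q w aU) • aW) := by module
      rw [e3] at h1
      exact S.top_of hu huQ hu0 ((orth Q W).sub_mem ((orth Q W).smul_mem _ hbU) ((orth Q W).smul_mem _ haU))
        (by rw [p_sub', p_smul', p_smul', hubU, p_comm Q u aU, hau]; ring)
        (W.sub_mem (W.smul_mem _ hbW) (W.smul_mem _ haW)) hr h1
    by_contra hno
    have haUu : ∀ c : F, aU ≠ c • u := by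
      intro c hc
      apply hQ
      rw [hc, Q_smul, huQ, mul_zero]
    obtain ⟨w0, hw0, w01, w02⟩ := sepU aU haU u hu haUu
    have w02' : polar Q w0 aU ≠ 0 := by rw [p_comm]; exact w02
    have h1 := main w0 hw0 w01 hno
    obtain ⟨c, hc⟩ : ∃ c : F, bW = c • aW := by
      refine ⟨(polar Q w0 aU)⁻¹ * (polar Q w0 bU + Q (bU + bW) * polar Q w0 aU), ?_⟩
      rw [sub_eq_zero] at h1
      rw [← smul_smul, ← h1, smul_smul, inv_mul_cancel₀ w02', one_smul]
    obtain ⟨b', hb'⟩ : ∃ b', b' = bU - c • aU := ⟨_, rfl⟩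
    have e1 : b' = (bU + bW) + (-c) • (aU + aW) := by rw [hb', hc]; module
    have hb'U : b' ∈ orth Q W := by rw [hb']; exact (orth Q W).sub_mem hbU ((orth Q W).smul_mem _ haU)
    have hb'0 : b' ≠ 0 := by
      intro h0
      apply hb c
      rw [h0] at e1
      have e2 : bU + bW = c • (aU + aW) + ((bU + bW) + (-c) • (aU + aW)) := by module
      rw [e2, ← e1, add_zero]
    have hab' : polar Q (aU + aW) b' = 0 := by rw [e1, p_add', p_smul', p_self, haQ, hab]; ring
    have hab'' : polar Q b' aU = 0 := by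
      rw [p_add, p_comm Q aW, pUW hb'U haW, add_zero, p_comm] at hab'
      exact hab'
    have hQb : Q b' = Q (bU + bW) := by
      rw [e1, Q_add, Q_smul, p_smul', p_comm, hab, haQ]; ring
    obtain ⟨α, hα⟩ : ∃ α : F, b' + Q b' • aU = α • u := by
      by_contra hcon
      push Not at hcon
      obtain ⟨w, hw, hw1, hw2⟩ := sepU (b' + Q b' • aU)
        ((orth Q W).add_mem hb'U ((orth Q W).smul_mem _ haU)) u hu hcon
      have h2 := main w hw hw1 hno
      rw [hc, smul_smul, ← sub_smul] at h2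
      have h3 := (smul_eq_zero.1 h2).resolve_right haW0
      apply hw2
      have h4 : polar Q w b' = polar Q w bU - c * polar Q w aU := by rw [hb', p_sub', p_smul']
      rw [p_comm, p_add', p_smul', h4, hQb, hc]
      linear_combination -h3
    have h2 : Q b' = 0 := by
      have h3 := congrArg (fun z => polar Q z aU) hα
      simp only [p_add, p_smul, p_self, hab''] at h3
      rw [p_comm Q u aU, hau] at h3
      have h4 : Q b' * (2 * Q aU) = 0 := by linear_combination h3
      exact (mul_eq_zero.1 h4).resolve_right (mul_ne_zero S.odd hQ)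
    rw [h2, zero_smul, add_zero] at hα
    have hα0 : α ≠ 0 := by
      rintro rfl
      rw [zero_smul] at hα
      exact hb'0 hα
    apply hun
    refine ⟨α⁻¹ • (x + (-c) • t1), (orth Q W).smul_mem _ ((orth Q W).add_mem hx ((orth Q W).smul_mem _ ht1)), ?_, ?_⟩
    · rw [p_smul', p_add', p_smul', hx1, p_self, ht1Q]; ring
    · rw [map_smul, map_add, map_smul, eb, ea, ← e1, hα, smul_smul, inv_mul_cancel₀ hα0, one_smul]

end H95.Nd7
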