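import Mathlib
import Cfsg.Agent.Lib.H95.OSie
import Cfsg.Agent.Lib.H95.OBridge

set_option autoImplicit false

/-!
Stabilisers of nonsingular vectors in orthogonal groups in characteristic two.
-/

namespace H95.ONs

open Module QuadraticMap H48.QuadSplit H95.OGeo H17.OrthAbs H95.OSie H95.UBasic

variable {F V : Type*} [Field F] [AddCommGroup V] [Module F V] {Q : QuadraticForm F V}
  [FiniteDimensional F V]

lemma scal {F : Type*} [Field F] (h2 : (2 : F) = 0) {c : F} (hc : c * c = 1) : c = 1 := by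
  have e2 : (c - 1) * (c - 1) = 0 := by linear_combination hc + (-c + 1) * h2
  exact sub_eq_zero.1 (mul_self_eq_zero.1 e2)

omit [FiniteDimensional F V] in
lemma fix_iff (h2 : (2 : F) = 0) {v : V} (hv : Q v ≠ 0) {g : V ≃ₗ[F] V} (hg : g ∈ O Q) :
    (∀ w ∈ Submodule.span F {v}, g w ∈ Submodule.span F {v}) ↔ g v = v := by
  constructor
  · intro h
    obtain ⟨c, hc⟩ := Submodule.mem_span_singleton.1 (h v (Submodule.mem_span_singleton_self v))
    have h1 : Q (g v) = Q v := hg v
    rw [← hc, Q_smul] at h1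
    have h3 : c * c = 1 := mul_right_cancel₀ hv (by rw [h1, one_mul])
    rw [← hc, scal h2 h3, one_smul]
  · intro h w hw
    obtain ⟨c, rfl⟩ := Submodule.mem_span_singleton.1 hw
    rw [map_smul, h]
    exact hw

variable [Finite F]

theorem exists_not (hQ : ND Q) (hn : 9 ≤ finrank F V) {v : V} (hv : Q v ≠ 0) :
    ∃ g ∈ ⁅O Q, O Q⁆, g v ≠ v := by
  have hv0 : v ≠ 0 := by rintro rfl; exact hv (map_zero Q)
  have hfr : finrank F (Submodule.span F {v}) = 1 := finrank_span_singleton hv0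
  obtain ⟨z, hz, -, hzT⟩ := perp_val hQ (k := 0) (by omega) ![] (T := Submodule.span F {v})
    (by omega) (Q v)
  have hz0 : z ≠ 0 := by rintro rfl; exact hzT (Submodule.zero_mem _)
  obtain ⟨e, he, -, hev⟩ := trans_val hQ (M := ⁅O Q, O Q⁆) (by omega)
    (fun u hu => ⟨hu, fun y hy => sie_mem_omega hQ hn hu hy⟩) hv0 hz0 hz.symm
  refine ⟨e, he, fun h => hzT ?_⟩
  rw [← hev, h]
  exact Submodule.mem_span_singleton_self v

theorem overgroup (hQ : ND Q) (hn : 9 ≤ finrank F V) (h2 : (2 : F) = 0) {v : V} (hv : Q v ≠ 0)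
    (M : Subgroup (V ≃ₗ[F] V)) (hMO : M ≤ O Q)
    (hM : ∀ x ∈ ⁅O Q, O Q⁆, x v = v → x ∈ M) (hg : ∃ g ∈ M, g v ≠ v) : ⁅O Q, O Q⁆ ≤ M := by
  obtain ⟨g, hgM, hgv⟩ := hg
  have hgO := hMO hgM
  have hv0 : v ≠ 0 := by rintro rfl; exact hv (map_zero Q)
  set v' := g v with hv'
  have hvv' : Q v' = Q v := hgO v
  have hli : LinearIndependent F ![v, v'] := by
    apply pair_indep hv0
    intro c hc
    rw [hc, Q_smul] at hvv'
    have h3 : c * c = 1 := mul_right_cancel₀ hv (by rw [hvv', one_mul])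
    rw [scal h2 h3, one_smul] at hc
    exact hgv hc
  -- Siegel elements
  have hM1 : ∀ u y, Q u = 0 → polar Q u y = 0 → polar Q u v = 0 → polar Q y v = 0 → sie Q u y ∈ M := by
    intro u y hu huy huv hyv
    apply hM _ (sie_mem_omega hQ hn hu huy)
    rw [sie_apply hu huy, p_comm Q v u, p_comm Q v y, huv, hyv]; simp
  have hM2 : ∀ u y, Q u = 0 → polar Q u y = 0 → polar Q u v' = 0 → polar Q y v' = 0 →
      sie Q u y ∈ M := by
    intro u y hu huy huv hyv
    have hgi : g⁻¹ ∈ O Q := (O Q).inv_mem hgO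
    have e0 : ∀ x, g (g⁻¹ x) = x := fun x => g.apply_symm_apply x
    have e1 : ∀ x, polar Q (g⁻¹ x) v = polar Q x v' := fun x => by
      rw [← polar_map hgO, e0]
    have h1 := hM1 (g⁻¹ u) (g⁻¹ y) (by rw [hgi, hu]) (by rw [polar_map hgi, huy])
      (by rw [e1, huv]) (by rw [e1, hyv])
    have h3 := conj_mem' hgM h1
    rwa [sie_conj (by rw [hgi, hu]) (by rw [polar_map hgi, huy]) hgO, e0, e0] at h3
  have hfr : finrank F (Submodule.span F (Set.range ![v, v'])) ≤ 2 := by
    have := finrank_range_le_card (R := F) ![v, v']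
    rw [Fintype.card_fin] at this
    exact this
  obtain ⟨e, he, e', he', heQ, he'Q, hee'⟩ := exists_hyp hQ
    (L := Submodule.span F (Set.range ![v, v'])) (by omega)
  have key : ∀ e e', e ∈ orth Q (Submodule.span F (Set.range ![v, v'])) →
      e' ∈ orth Q (Submodule.span F (Set.range ![v, v'])) → Q e = 0 → polar Q e e' = 1 →
      Full Q M e := by
    intro e e' he he' heQ hee'
    have h1 : polar Q e v = 0 := by rw [p_comm]; exact he v (Submodule.subset_span ⟨0, rfl⟩)
    have h2 : polar Q e v' = 0 := by rw [p_comm]; exact he v' (Submodule.subset_span ⟨1, rfl⟩)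
    have h3 : LinearIndependent F ![e, v, v'] := by
      refine linearIndependent_finCons.2 ⟨hli, fun h => ?_⟩
      have := he' e h
      rw [hee'] at this
      exact one_ne_zero this
    refine ⟨heQ, fun y hy => ?_⟩
    obtain ⟨y₁, hy₁⟩ := dual hQ h3 ![0, 0, polar Q y v']
    have k1 : polar Q y₁ e = 0 := hy₁ 0
    have k2 : polar Q y₁ v = 0 := hy₁ 1
    have k3 : polar Q y₁ v' = polar Q y v' := hy₁ 2
    have k4 : polar Q e y₁ = 0 := by rw [p_comm, k1]
    have k5 : polar Q e (y - y₁) = 0 := by rw [p_sub', hy, k4, sub_zero]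
    have h4 := M.mul_mem (hM1 e y₁ heQ k4 h1 k2) (hM2 e (y - y₁) heQ k5 h2 (by
      rw [p_sub, k3, sub_self]))
    rwa [sie_mul heQ k4 k5, add_sub_cancel] at h4
  exact omega_le_of_full hQ (by omega) (key e e' he he' heQ hee')
    (key e' e he' he he'Q (by rw [p_comm, hee'])) (by rw [p_comm, hee']; exact one_ne_zero)

section

open Cfsg Cfsg.Geo H95.Bridge H95.OBridge

variable {ι : Type} [Fintype ι] [DecidableEq ι] {F : Type*} [Field F] [Finite F]

theorem ns_max {Q : QuadraticForm F (ι → F)} (hQ : ND Q) (hn : 9 ≤ Fintype.card ι)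
    (h2 : (2 : F) = 0) {v : ι → F} (hv : Q v ≠ 0) :
    IsMaximalIn (omegaGL (⇑Q)) (subspaceStabilizer (Submodule.span F {v}) ⊓ omegaGL (⇑Q)) := by
  have hfr : finrank F (ι → F) = Fintype.card ι := Module.finrank_fintype_fun_eq_card F
  have hmem := mem_omegaGL Q
  apply isMaximalIn_of
  · obtain ⟨g, hg, hgp⟩ := exists_not hQ (by omega) hv
    refine ⟨(toEq _ F).symm g, ?_, ?_⟩
    · rw [hmem, MulEquiv.apply_symm_apply]; exact hg
    · rw [mem_subspaceStabilizer, MulEquiv.apply_symm_apply]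
      exact fun hcon => hgp ((fix_iff h2 hv (omega_le_O Q hg)).1 fun x hx => (hcon x).1 hx)
  · intro M hHM hMK ⟨g, hg, hgS⟩
    refine le_of_map hmem (overgroup hQ (by omega) h2 hv _ ?_ ?_ ?_)
    · rintro _ ⟨x, hx, rfl⟩
      exact omega_le_O Q ((hmem x).1 (hMK hx))
    · intro x hx hσ
      rw [mem_map_toEq]
      refine hHM ⟨?_, ?_⟩
      · apply mem_subspaceStabilizer_of
        rw [MulEquiv.apply_symm_apply]
        exact (fix_iff h2 hv (omega_le_O Q hx)).2 hσ
      · exact (hmem _).2 (by rw [MulEquiv.apply_symm_apply]; exact hx)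
    · exact ⟨toEq _ F g, ⟨g, hg, rfl⟩, fun hp => hgS (mem_subspaceStabilizer_of
        ((fix_iff h2 hv (omega_le_O Q ((hmem g).1 (hMK hg)))).2 hp))⟩

end

end H95.ONs
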