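import Mathlib
import Cfsg.Agent.Lib.H95.OPar
import Cfsg.Agent.Lib.H95.OBridge

set_option autoImplicit false

namespace H95.OParB

open Module Cfsg Cfsg.Geo H95.Bridge QuadraticMap H17.OrthAbs H48.QuadSplit H95.OBridge H95.OPar
open scoped Matrix MatrixGroups

variable {ι : Type} [Fintype ι] [DecidableEq ι] {F : Type*} [Field F] [Finite F]

theorem par_max {Q : QuadraticForm F (ι → F)} (hQ : ND Q) (hn : 9 ≤ Fintype.card ι)
    {W : Submodule F (ι → F)} (hW0 : W ≠ ⊥) (hW : IsTotallySingularQuad (⇑Q) W)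
    (hex : 2 * (finrank F W + 1) = Fintype.card ι → ¬ IsPlusTypeOn (⇑Q) ⊤) :
    IsMaximalIn (omegaGL (⇑Q)) (subspaceStabilizer W ⊓ omegaGL (⇑Q)) := by
  have hfr : finrank F (ι → F) = Fintype.card ι := Module.finrank_fintype_fun_eq_card F
  have hmem := mem_omegaGL Q
  apply isMaximalIn_of
  · obtain ⟨g, hg, hgp⟩ := exists_not hQ (by omega) hW0 hW
    refine ⟨(toEq _ F).symm g, ?_, ?_⟩
    · rw [hmem, MulEquiv.apply_symm_apply]; exact hg
    · rw [mem_subspaceStabilizer, MulEquiv.apply_symm_apply]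
      exact fun hcon => hgp fun x hx => (hcon x).1 hx
  · intro M hHM hMK ⟨g, hg, hgS⟩
    refine le_of_map hmem (overgroup hQ (by omega) hW ?_ _ ?_ ?_ ?_)
    · intro h1 T hT h2
      refine hex (by omega) ⟨T, le_top, hT, ?_⟩
      rw [h2, finrank_top]
    · rintro _ ⟨x, hx, rfl⟩
      exact H95.OSie.omega_le_O Q ((hmem x).1 (hMK hx))
    · intro x hx hσ
      rw [mem_map_toEq]
      refine hHM ⟨?_, ?_⟩
      · exact mem_subspaceStabilizer_of (by rw [MulEquiv.apply_symm_apply]; exact hσ)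
      · exact (hmem _).2 (by rw [MulEquiv.apply_symm_apply]; exact hx)
    · exact ⟨toEq _ F g, ⟨g, hg, rfl⟩, fun hp => hgS (mem_subspaceStabilizer_of hp)⟩

end H95.OParB
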