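import Mathlib
import Cfsg.Agent.Lib.H95.ONd
import Cfsg.Agent.Lib.H95.Bridge2

set_option autoImplicit false

/-!
Stabilisers of pairs of complementary totally singular subspaces.
-/

namespace H95.OTs

open Module QuadraticMap H48.QuadSplit H95.OGeo H17.OrthAbs H95.OSie H95.UBasic H95.OPar
open scoped commutatorElement

variable {F V : Type*} [Field F] [AddCommGroup V] [Module F V] {Q : QuadraticForm F V}

/-- complementary totally singular subspaces -/
structure TPair (Q : QuadraticForm F V) (A B : Submodule F V) : Prop where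
  tA : ∀ x ∈ A, Q x = 0
  tB : ∀ x ∈ B, Q x = 0
  sup : A ⊔ B = ⊤
  disj : ∀ x, x ∈ A → x ∈ B → x = 0

variable {A B : Submodule F V}

lemma TPair.symm (T : TPair Q A B) : TPair Q B A :=
  ⟨T.tB, T.tA, by rw [sup_comm]; exact T.sup, fun x h1 h2 => T.disj x h2 h1⟩

lemma TPair.dec (T : TPair Q A B) (x : V) : ∃ a ∈ A, ∃ b ∈ B, x = a + b := by
  have : x ∈ A ⊔ B := by rw [T.sup]; trivial
  obtain ⟨a, ha, b, hb, h⟩ := Submodule.mem_sup.1 this
  exact ⟨a, ha, b, hb, h.symm⟩

lemma TPair.pA (T : TPair Q A B) {x y : V} (hx : x ∈ A) (hy : y ∈ A) : polar Q x y = 0 :=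
  ts_polar T.tA hx hy

lemma TPair.pB (T : TPair Q A B) {x y : V} (hx : x ∈ B) (hy : y ∈ B) : polar Q x y = 0 :=
  ts_polar T.tB hx hy

/-- vectors of `B` with given products with independent vectors of `A` -/
lemma TPair.dual [FiniteDimensional F V] (hQ : ND Q) (T : TPair Q A B) {k : ℕ} {x : Fin k → V}
    (hx : ∀ i, x i ∈ A) (hli : LinearIndependent F x) (c : Fin k → F) :
    ∃ y ∈ B, ∀ i, polar Q y (x i) = c i := by
  obtain ⟨u, hu⟩ := OGeo.dual hQ hli c
  obtain ⟨a, ha, b, hb, rfl⟩ := T.dec u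
  refine ⟨b, hb, fun i => ?_⟩
  have := hu i
  rwa [p_add, T.pA ha (hx i), zero_add] at this

/-- separation -/
lemma TPair.sep [FiniteDimensional F V] (hQ : ND Q) (T : TPair Q A B) {S : Submodule F V}
    (hS : S ≤ A) {z : V} (hz : z ∈ A) (hzS : z ∉ S) :
    ∃ y ∈ B, (∀ s ∈ S, polar Q s y = 0) ∧ polar Q z y = 1 := by
  obtain ⟨w, hw, hw'⟩ := OGeo.sep hQ hzS
  obtain ⟨a, ha, b, hb, rfl⟩ := T.dec w
  have e1 : polar Q z b = polar Q z (a + b) := by rw [p_add', T.pA hz ha, zero_add]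
  refine ⟨(polar Q z b)⁻¹ • b, B.smul_mem _ hb, fun s hs => ?_, ?_⟩
  · have := hw s hs
    rw [p_add', T.pA (hS hs) ha, zero_add] at this
    rw [p_smul', this, mul_zero]
  · rw [p_smul', inv_mul_cancel₀]
    rw [e1]; exact hw'

/-- the Siegel elements for the pair -/
lemma TPair.sie_stab (T : TPair Q A B) {u y : V} (hu : u ∈ A) (hy : y ∈ B) (huy : polar Q u y = 0) :
    (∀ x ∈ A, sie Q u y x ∈ A) ∧ ∀ x ∈ B, sie Q u y x ∈ B := by
  have hu0 := T.tA u hu
  refine ⟨fun x hx => ?_, fun x hx => ?_⟩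
  · rw [sie_apply hu0 huy, T.pA hx hu]
    simp only [zero_smul, mul_zero, add_zero, sub_zero]
    exact A.sub_mem hx (A.smul_mem _ hu)
  · rw [sie_apply hu0 huy, T.pB hx hy, T.tB y hy]
    simp only [zero_smul, zero_mul, sub_zero]
    exact B.add_mem hx (B.smul_mem _ hy)

/-- Lemma B. -/
lemma TPair.lemB [FiniteDimensional F V] (hQ : ND Q) (T : TPair Q A B) (hk : 5 ≤ finrank F A)
    {M : Subgroup (V ≃ₗ[F] V)}
    (hM : ∀ u ∈ A, ∀ y ∈ B, polar Q u y = 0 → sie Q u y ∈ M) {a b a₀ b₀ a₁ b₁ : V}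
    (ha₀ : a₀ ∈ A) (hb₀ : b₀ ∈ A) (ha₁ : a₁ ∈ B) (hb₁ : b₁ ∈ B) (hae : a = a₀ + a₁)
    (hbe : b = b₀ + b₁) (haQ : Q a = 0) (hbQ : Q b = 0) (hab : polar Q a b = 0)
    (hs : sie Q a b ∈ M) (hli : LinearIndependent F ![a₀, b₀]) :
    ∃ u ∈ A, ∃ z ∈ A, LinearIndependent F ![u, z] ∧ sie Q u z ∈ M := by
  -- choose u
  obtain ⟨u, huA, hua₁, hub₁, hu⟩ : ∃ u ∈ A, polar Q u a₁ = 0 ∧ polar Q u b₁ = 0 ∧
      u ∉ Submodule.span F (Set.range ![a₀, b₀]) := by
    by_contra hcon
    push Not at hcon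
    have h1 := finrank_perpF_ge (bl Q) A ![a₁, b₁]
    rw [Fintype.card_fin] at h1
    have h2 : perpF (bl Q) A ![a₁, b₁] ≤ Submodule.span F (Set.range ![a₀, b₀]) := by
      intro u hu
      exact hcon u hu.1 (hu.2 0) (hu.2 1)
    have h3 := Submodule.finrank_mono h2
    have h4 : finrank F (Submodule.span F (Set.range ![a₀, b₀])) ≤ 2 := by
      have := finrank_range_le_card (R := F) ![a₀, b₀]
      rw [Fintype.card_fin] at this
      exact this
    omega
  have hl3 : LinearIndependent F ![u, a₀, b₀] := linearIndependent_finCons.2 ⟨hli, hu⟩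
  obtain ⟨y, hy, hy'⟩ := T.dual hQ (by
    intro i; fin_cases i
    · exact huA
    · exact ha₀
    · exact hb₀) hl3 ![0, 1, 0]
  have e1 : polar Q y u = 0 := hy' 0
  have e2 : polar Q y a₀ = 1 := hy' 1
  have e3 : polar Q y b₀ = 0 := hy' 2
  have huy : polar Q u y = 0 := by rw [p_comm, e1]
  have huQ := T.tA u huA
  have hua : polar Q u a = 0 := by rw [hae, p_add', T.pA huA ha₀, hua₁, add_zero]
  have hub : polar Q u b = 0 := by rw [hbe, p_add', T.pA huA hb₀, hub₁, add_zero]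
  have hya : polar Q y a = 1 := by rw [hae, p_add', T.pB hy ha₁, e2, add_zero]
  have hyb : polar Q y b = 0 := by rw [hbe, p_add', T.pB hy hb₁, e3, add_zero]
  have hfix : sie Q a b u = u := by rw [sie_apply haQ hab, hua, hub]; simp
  have h1 := comm_stab huQ huy (hM u huA y hy huy) hs (sie_mem_O _ _ _) hfix
  have e4 : sie Q a b y - y = b := by
    rw [sie_apply haQ hab, hya, hyb, hbQ]; simp
  rw [e4] at h1
  have h2 := M.mul_mem h1 (M.inv_mem (hM u huA b₁ hb₁ hub₁))
  rw [sie_inv huQ hub₁, sie_mul huQ hub (by rw [p_neg', hub₁, neg_zero])] at h2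
  have e5 : b + -b₁ = b₀ := by rw [hbe]; abel
  rw [e5] at h2
  refine ⟨u, huA, b₀, hb₀, ?_, h2⟩
  have := hl3.comp ![0, 2] (by decide)
  have e : ![u, a₀, b₀] ∘ ![0, 2] = ![u, b₀] := by ext i; fin_cases i <;> rfl
  rwa [e] at this

/-- Lemma C, first part. -/
lemma TPair.lemC [FiniteDimensional F V] (hQ : ND Q) (T : TPair Q A B) (hk : 5 ≤ finrank F A)
    {M : Subgroup (V ≃ₗ[F] V)}
    (hM : ∀ u ∈ A, ∀ y ∈ B, polar Q u y = 0 → sie Q u y ∈ M) {u z : V} (hu : u ∈ A) (hz : z ∈ A)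
    (hli : LinearIndependent F ![u, z]) (hs : sie Q u z ∈ M) {p : V} (hp : p ∈ A) :
    sie Q u p ∈ M := by
  have huQ := T.tA u hu
  have key : ∀ p ∈ A, z ∉ Submodule.span F {u, p} → sie Q u p ∈ M := by
    intro p hp hzp
    obtain ⟨w, hw, hw1, hw2⟩ := T.sep hQ (S := Submodule.span F {u, p}) (by
      rw [Submodule.span_le]
      rintro x (rfl | rfl)
      · exact hu
      · exact hp) hz hzp
    have huw : polar Q u w = 0 := hw1 u (Submodule.subset_span (by simp))
    have hpw : polar Q p w = 0 := hw1 p (Submodule.subset_span (by simp))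
    have hpw' : polar Q p (-w) = 0 := by rw [p_neg', hpw, neg_zero]
    have h1 := hM p hp (-w) (B.neg_mem hw) hpw'
    have hfix : sie Q p (-w) u = u := by
      rw [sie_apply (T.tA p hp) hpw', T.pA hu hp, p_neg', huw]; simp
    have h2 := comm_stab huQ (T.pA hu hz) hs h1 (sie_mem_O _ _ _) hfix
    have e : sie Q p (-w) z - z = p := by
      rw [sie_apply (T.tA p hp) hpw', T.pA hz hp, p_neg', hw2]
      simp
    rwa [e] at h2
  obtain ⟨p', hp', hp'S⟩ : ∃ p' ∈ A, p' ∉ Submodule.span F (Set.range ![u, z, p]) := by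
    by_contra hcon
    push Not at hcon
    have h3 := Submodule.finrank_mono (show A ≤ Submodule.span F (Set.range ![u, z, p]) from hcon)
    have h4 : finrank F (Submodule.span F (Set.range ![u, z, p])) ≤ 3 := by
      have := finrank_range_le_card (R := F) ![u, z, p]
      rw [Fintype.card_fin] at this
      exact this
    omega
  have mu : u ∈ Submodule.span F (Set.range ![u, z, p]) := Submodule.subset_span ⟨0, rfl⟩
  have mz : z ∈ Submodule.span F (Set.range ![u, z, p]) := Submodule.subset_span ⟨1, rfl⟩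
  have mp : p ∈ Submodule.span F (Set.range ![u, z, p]) := Submodule.subset_span ⟨2, rfl⟩
  have gen : ∀ x, x ∉ Submodule.span F (Set.range ![u, z, p]) → z ∉ Submodule.span F {u, x} := by
    intro x hx hcon
    obtain ⟨s, t, hst⟩ := Submodule.mem_span_pair.1 hcon
    by_cases ht : t = 0
    · rw [ht, zero_smul, add_zero] at hst
      have h5 : s • u + (-1 : F) • z = 0 := by rw [hst]; module
      have := (LinearIndependent.pair_iff.1 hli _ _ h5).2
      exact one_ne_zero (neg_eq_zero.1 this)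
    · apply hx
      have : x = t⁻¹ • (z - s • u) := by
        rw [← hst, add_sub_cancel_left, smul_smul, inv_mul_cancel₀ ht, one_smul]
      rw [this]
      exact Submodule.smul_mem _ _ (Submodule.sub_mem _ mz (Submodule.smul_mem _ _ mu))
  have h1 := key p' hp' (gen p' hp'S)
  have h2 := key (p - p') (A.sub_mem hp hp') (gen _ (fun h => hp'S ((Submodule.sub_mem_iff_right _ mp).1 h)))
  have h3 := M.mul_mem h1 h2
  rwa [sie_mul huQ (T.pA hu hp') (T.pA hu (A.sub_mem hp hp')), add_sub_cancel] at h3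

/-- Lemma C: all Siegel elements with vectors in `A`. -/
lemma TPair.allA [FiniteDimensional F V] (hQ : ND Q) (T : TPair Q A B) (hk : 5 ≤ finrank F A)
    {M : Subgroup (V ≃ₗ[F] V)}
    (hM : ∀ u ∈ A, ∀ y ∈ B, polar Q u y = 0 → sie Q u y ∈ M) {u z : V} (hu : u ∈ A) (hz : z ∈ A)
    (hli : LinearIndependent F ![u, z]) (hs : sie Q u z ∈ M) {x : V} (hx : x ∈ A) :
    Full Q M x := by
  have h1 : ∀ p ∈ A, sie Q u p ∈ M := fun p hp => T.lemC hQ hk hM hu hz hli hs hp
  have hu0 : u ≠ 0 := hli.ne_zero 0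
  have h2 : ∀ p ∈ A, ∀ q ∈ A, sie Q p q ∈ M := by
    intro p hp q hq
    by_cases hlp : LinearIndependent F ![u, p]
    · have h3 := h1 p hp
      rw [sie_swap (T.tA u hu) (T.tA p hp) (T.pA hu hp)] at h3
      refine T.lemC hQ hk hM hp (A.neg_mem hu) ?_ h3 hq
      have h4 := hlp.comp ![1, 0] (by decide)
      have e : ![u, p] ∘ ![1, 0] = ![p, u] := by ext i; fin_cases i <;> rfl
      rw [e, LinearIndependent.pair_iff] at h4
      rw [LinearIndependent.pair_iff]
      intro s t hst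
      obtain ⟨h5, h6⟩ := h4 s (-t) (by rw [neg_smul, ← smul_neg]; exact hst)
      exact ⟨h5, neg_eq_zero.1 h6⟩
    · have : ∃ c : F, p = c • u := by
        by_contra hcon
        push Not at hcon
        exact hlp (pair_indep hu0 hcon)
      obtain ⟨c, rfl⟩ := this
      rw [sie_smul (T.tA u hu) (T.pA hu hq)]
      exact h1 _ (A.smul_mem _ hq)
  refine ⟨T.tA x hx, fun y hy => ?_⟩
  obtain ⟨a, ha, b, hb, rfl⟩ := T.dec y
  have e1 := T.pA hx ha
  have e2 : polar Q x b = 0 := by rwa [p_add', e1, zero_add] at hy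
  rw [← sie_mul (T.tA x hx) e1 e2]
  exact M.mul_mem (h2 x hx a ha) (hM x hx b hb e2)

/-- preserves or interchanges -/
abbrev Perm (A B : Submodule F V) (g : V ≃ₗ[F] V) : Prop := H95.Bridge2.Perm2' A B g

/-- a subspace in the union of two subspaces -/
lemma union_two {S X Y : Submodule F V} (h : ∀ x ∈ S, x ∈ X ∨ x ∈ Y) : S ≤ X ∨ S ≤ Y := by
  by_contra hcon
  push Not at hcon
  obtain ⟨⟨a, ha, haX⟩, ⟨b, hb, hbY⟩⟩ : (∃ a ∈ S, a ∉ X) ∧ (∃ b ∈ S, b ∉ Y) :=
    ⟨SetLike.not_le_iff_exists.1 hcon.1, SetLike.not_le_iff_exists.1 hcon.2⟩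
  have haY := (h a ha).resolve_left haX
  have hbX := (h b hb).resolve_right hbY
  rcases h (a + b) (S.add_mem ha hb) with h1 | h1
  · exact haX ((X.add_mem_iff_left hbX).1 h1)
  · exact hbY ((Y.add_mem_iff_right haY).1 h1)

/-- Step A. -/
lemma TPair.stepA [FiniteDimensional F V] (T : TPair Q A B)
    (hkA : 5 ≤ finrank F A) (hkB : 5 ≤ finrank F B) {g : V ≃ₗ[F] V} (hg : ¬ Perm A B g)
    (hdim : finrank F A = finrank F B) :
    ∃ u ∈ A, ∃ y ∈ B, polar Q u y = 0 ∧ ∃ a₀ ∈ A, ∃ a₁ ∈ B, ∃ b₀ ∈ A, ∃ b₁ ∈ B, g u = a₀ + a₁ ∧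
      g y = b₀ + b₁ ∧ (LinearIndependent F ![a₀, b₀] ∨ LinearIndependent F ![a₁, b₁]) := by
  by_contra hcon
  push Not at hcon
  have hinj : ∀ x, g x = 0 → x = 0 := fun x hx => by simpa using hx
  -- images lie in the union
  have main : ∀ u ∈ A, g u ∈ A ∨ g u ∈ B := by
    intro u hu
    obtain ⟨a₀, ha₀, a₁, ha₁, hae⟩ := T.dec (g u)
    by_cases h0 : a₀ = 0
    · right; rw [hae, h0, zero_add]; exact ha₁
    by_cases h1 : a₁ = 0
    · left; rw [hae, h1, add_zero]; exact ha₀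
    exfalso
    have h2 : ∀ y ∈ B, polar Q u y = 0 → g y ∈ Submodule.span F {a₀, a₁} := by
      intro y hy huy
      obtain ⟨b₀, hb₀, b₁, hb₁, hbe⟩ := T.dec (g y)
      obtain ⟨k1, k2⟩ := hcon u hu y hy huy a₀ ha₀ a₁ ha₁ b₀ hb₀ b₁ hb₁ hae hbe
      have e1 : ∃ c : F, b₀ = c • a₀ := by
        by_contra hc; push Not at hc; exact k1 (pair_indep h0 hc)
      have e2 : ∃ c : F, b₁ = c • a₁ := by
        by_contra hc; push Not at hc; exact k2 (pair_indep h1 hc)
      obtain ⟨c, rfl⟩ := e1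
      obtain ⟨d, rfl⟩ := e2
      rw [hbe]
      exact Submodule.add_mem _ (Submodule.smul_mem _ _ (Submodule.subset_span (by simp)))
        (Submodule.smul_mem _ _ (Submodule.subset_span (by simp)))
    have h3 := finrank_perpF_ge (bl Q) B ![u]
    rw [Fintype.card_fin] at h3
    have h4 : (perpF (bl Q) B ![u]).map (g : V →ₗ[F] V) ≤ Submodule.span F {a₀, a₁} := by
      rintro _ ⟨y, hy, rfl⟩
      exact h2 y hy.1 (by rw [p_comm]; exact hy.2 0)
    have h5 := Submodule.finrank_mono h4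
    rw [LinearEquiv.finrank_map_eq] at h5
    have h6 : finrank F (Submodule.span F {a₀, a₁}) ≤ 2 := by
      have e : ({a₀, a₁} : Set V) = Set.range ![a₀, a₁] := by
        ext z; simp [or_comm]
      rw [e]
      have := finrank_range_le_card (R := F) ![a₀, a₁]
      rw [Fintype.card_fin] at this
      exact this
    omega
  have main' : ∀ y ∈ B, g y ∈ A ∨ g y ∈ B := by
    intro y hy
    obtain ⟨b₀, hb₀, b₁, hb₁, hbe⟩ := T.dec (g y)
    by_cases h0 : b₀ = 0
    · right; rw [hbe, h0, zero_add]; exact hb₁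
    by_cases h1 : b₁ = 0
    · left; rw [hbe, h1, add_zero]; exact hb₀
    exfalso
    have h2 : ∀ u ∈ A, polar Q u y = 0 → g u ∈ Submodule.span F {b₀, b₁} := by
      intro u hu huy
      obtain ⟨a₀, ha₀, a₁, ha₁, hae⟩ := T.dec (g u)
      obtain ⟨k1, k2⟩ := hcon u hu y hy huy a₀ ha₀ a₁ ha₁ b₀ hb₀ b₁ hb₁ hae hbe
      have sw : ∀ {p q : V}, ¬ LinearIndependent F ![p, q] → ¬ LinearIndependent F ![q, p] := by
        intro p q hpq hqp
        apply hpq
        have := hqp.comp ![1, 0] (by decide)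
        have e : ![q, p] ∘ ![1, 0] = ![p, q] := by ext i; fin_cases i <;> rfl
        rwa [e] at this
      have e1 : ∃ c : F, a₀ = c • b₀ := by
        by_contra hc; push Not at hc; exact sw k1 (pair_indep h0 hc)
      have e2 : ∃ c : F, a₁ = c • b₁ := by
        by_contra hc; push Not at hc; exact sw k2 (pair_indep h1 hc)
      obtain ⟨c, rfl⟩ := e1
      obtain ⟨d, rfl⟩ := e2
      rw [hae]
      exact Submodule.add_mem _ (Submodule.smul_mem _ _ (Submodule.subset_span (by simp)))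
        (Submodule.smul_mem _ _ (Submodule.subset_span (by simp)))
    have h3 := finrank_perpF_ge (bl Q) A ![y]
    rw [Fintype.card_fin] at h3
    have h4 : (perpF (bl Q) A ![y]).map (g : V →ₗ[F] V) ≤ Submodule.span F {b₀, b₁} := by
      rintro _ ⟨u, hu, rfl⟩
      exact h2 u hu.1 (hu.2 0)
    have h5 := Submodule.finrank_mono h4
    rw [LinearEquiv.finrank_map_eq] at h5
    have h6 : finrank F (Submodule.span F {b₀, b₁}) ≤ 2 := by
      have e : ({b₀, b₁} : Set V) = Set.range ![b₀, b₁] := by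
        ext z; simp [or_comm]
      rw [e]
      have := finrank_range_le_card (R := F) ![b₀, b₁]
      rw [Fintype.card_fin] at this
      exact this
    omega
  have u1 := union_two (S := A) (X := A.comap (g : V →ₗ[F] V)) (Y := B.comap (g : V →ₗ[F] V)) main
  have u2 := union_two (S := B) (X := A.comap (g : V →ₗ[F] V)) (Y := B.comap (g : V →ₗ[F] V)) main'
  have nA : ∃ x ∈ A, x ≠ 0 := Submodule.exists_mem_ne_zero_of_ne_bot (by
    rintro rfl; rw [finrank_bot] at hkA; omega)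
  have nB : ∃ x ∈ B, x ≠ 0 := Submodule.exists_mem_ne_zero_of_ne_bot (by
    rintro rfl; rw [finrank_bot] at hkB; omega)
  have eqm : ∀ S X : Submodule F V, finrank F S = finrank F X → (∀ x ∈ S, g x ∈ X) →
      S.map (g : V →ₗ[F] V) = X := by
    intro S X hSX h
    apply Submodule.eq_of_le_of_finrank_eq
    · rintro _ ⟨x, hx, rfl⟩; exact h x hx
    · rw [← hSX]; exact LinearEquiv.finrank_map_eq g S
  apply hg
  rcases u1 with u1 | u1
  · rcases u2 with u2 | u2
    · exfalso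
      obtain ⟨x, hx, hx0⟩ := nB
      have h1 := eqm A A rfl (fun x hx => u1 hx)
      have h2 : g x ∈ A.map (g : V →ₗ[F] V) := by rw [h1]; exact u2 hx
      obtain ⟨x', hx', he⟩ := h2
      have : x' = x := g.injective he
      exact hx0 (T.disj x (by rw [← this]; exact hx') hx)
    · exact Or.inl ⟨fun x hx => u1 hx, fun x hx => u2 hx⟩
  · rcases u2 with u2 | u2
    · exact Or.inr ⟨fun x hx => u1 hx, fun x hx => u2 hx⟩
    · exfalso
      obtain ⟨x, hx, hx0⟩ := nA
      have h1 := eqm B B rfl (fun x hx => u2 hx)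
      have h2 : g x ∈ B.map (g : V →ₗ[F] V) := by rw [h1]; exact u1 hx
      obtain ⟨x', hx', he⟩ := h2
      have : x' = x := g.injective he
      exact hx0 (T.disj x hx (by rw [← this]; exact hx'))

end H95.OTs
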