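import Mathlib
import Cfsg.Agent.Lib.H95.OTs
import Cfsg.Agent.Lib.H95.OBridge

set_option autoImplicit false

/-!
Stabilisers of pairs of complementary totally singular subspaces, second part.
-/

namespace H95.OTs

open Module QuadraticMap H48.QuadSplit H95.OGeo H17.OrthAbs H95.OSie H95.UBasic H95.OPar
open scoped commutatorElement

variable {F V : Type*} [Field F] [AddCommGroup V] [Module F V] {Q : QuadraticForm F V}
  {A B : Submodule F V} [FiniteDimensional F V]

/-- an isometry interchanging the two subspaces; it lies in the commutator subgroup if the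
dimension is even -/
lemma TPair.exists_swap [Finite F] (hQ : ND Q) (hn : 9 ≤ finrank F V) (T : TPair Q A B)
    (hev : Even (finrank F A)) :
    ∃ s ∈ ⁅O Q, O Q⁆, (∀ x ∈ A, s x ∈ B) ∧ ∀ x ∈ B, s x ∈ A := by
  classical
  let b := finBasis F A
  let e : Fin (finrank F A) → V := fun i => (b i : V)
  have heA : ∀ i, e i ∈ A := fun i => (b i).2
  have hli : LinearIndependent F e := b.linearIndependent.map' A.subtype (Submodule.ker_subtype A)
  choose f hfB hf using fun i => T.dual hQ heA hli (Pi.single i 1)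
  have hfe : ∀ i j, polar Q (f i) (e j) = if j = i then 1 else 0 := by
    intro i j
    rw [hf i j, Pi.single_apply]
  have hef : ∀ i j, polar Q (e i) (f j) = if i = j then 1 else 0 := by
    intro i j
    rw [p_comm, hfe]
  have hq : ∀ i, Q (e i - f i) = -1 := by
    intro i
    rw [Q_sub, T.tA _ (heA i), T.tB _ (hfB i), hef, if_pos rfl]; ring
  have hq0 : ∀ i, Q (e i - f i) ≠ 0 := fun i => by rw [hq]; exact neg_ne_zero.2 one_ne_zero
  have r1 : ∀ i, H17.OrthAbs.refl Q (e i - f i) (hq0 i) (e i) = f i := by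
    intro i
    rw [refl_apply, hq, p_sub, T.pA (heA i) (heA i), hfe, if_pos rfl]
    norm_num
  have r2 : ∀ i, H17.OrthAbs.refl Q (e i - f i) (hq0 i) (f i) = e i := by
    intro i
    rw [refl_apply, hq, p_sub, T.pB (hfB i) (hfB i), hef, if_pos rfl]
    norm_num
  have r3 : ∀ i j, j ≠ i → H17.OrthAbs.refl Q (e i - f i) (hq0 i) (e j) = e j := by
    intro i j hij
    apply refl_fix
    rw [p_sub, T.pA (heA i) (heA j), hfe, if_neg hij, sub_zero]
  have r4 : ∀ i j, j ≠ i → H17.OrthAbs.refl Q (e i - f i) (hq0 i) (f j) = f j := by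
    intro i j hij
    apply refl_fix
    rw [p_sub, T.pB (hfB i) (hfB j), hef, if_neg (Ne.symm hij), sub_zero]
  obtain ⟨v₀, hv₀, -⟩ := dual_val hQ (k := 0) (x := ![]) (by omega) linearIndependent_empty_type ![] (-1)
  have hv₀0 : Q v₀ ≠ 0 := by rw [hv₀]; exact neg_ne_zero.2 one_ne_zero
  set r₀ := H17.OrthAbs.refl Q v₀ hv₀0 with hr₀
  have key : ∀ S : Finset (Fin (finrank F A)), ∃ s : V ≃ₗ[F] V,
      (∀ i ∈ S, s (e i) = f i ∧ s (f i) = e i) ∧ (∀ i ∉ S, s (e i) = e i ∧ s (f i) = f i) ∧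
      (Even S.card → s ∈ ⁅O Q, O Q⁆) ∧ (¬ Even S.card → s * r₀ ∈ ⁅O Q, O Q⁆) := by
    intro S
    induction S using Finset.induction_on with
    | empty =>
      refine ⟨1, fun i hi => absurd hi (Finset.notMem_empty i), fun i _ => ⟨rfl, rfl⟩,
        fun _ => Subgroup.one_mem _, fun h => absurd (by simp) h⟩
    | insert i S hi ih =>
      obtain ⟨s, h1, h2, h3, h4⟩ := ih
      have hadd : ∀ j, j ≠ i → ∀ x, (x = e j ∨ x = f j) →
          (s * H17.OrthAbs.refl Q (e i - f i) (hq0 i)) x = s x := by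
        rintro j hj x (rfl | rfl)
        · rw [LinearEquiv.mul_apply, r3 i j hj]
        · rw [LinearEquiv.mul_apply, r4 i j hj]
      refine ⟨s * H17.OrthAbs.refl Q (e i - f i) (hq0 i), ?_, ?_, ?_, ?_⟩
      · intro j hj
        by_cases hji : j = i
        · subst hji
          rw [LinearEquiv.mul_apply, LinearEquiv.mul_apply, r1, r2]
          exact ⟨(h2 j hi).2, (h2 j hi).1⟩
        · rw [hadd j hji _ (Or.inl rfl), hadd j hji _ (Or.inr rfl)]
          exact h1 j ((Finset.mem_insert.1 hj).resolve_left hji)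
      · intro j hj
        rw [Finset.mem_insert, not_or] at hj
        rw [hadd j hj.1 _ (Or.inl rfl), hadd j hj.1 _ (Or.inr rfl)]
        exact h2 j hj.2
      · intro hE
        rw [Finset.card_insert_of_notMem hi, Nat.even_add_one] at hE
        have h5 := h4 hE
        have h6 := H95.ONd.refl_mul_mem hQ hn hv₀0 (hq0 i) (by rw [hv₀, hq])
        have h7 := Subgroup.mul_mem _ h5 h6
        have h8 : s * r₀ * (H17.OrthAbs.refl Q v₀ hv₀0 * H17.OrthAbs.refl Q (e i - f i) (hq0 i)) =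
            s * H17.OrthAbs.refl Q (e i - f i) (hq0 i) := by
          rw [mul_assoc, ← mul_assoc r₀, ← hr₀, hr₀, refl_sq, one_mul]
        rwa [h8] at h7
      · intro hE
        rw [Finset.card_insert_of_notMem hi, Nat.even_add_one, not_not] at hE
        have h5 := h3 hE
        have h6 := H95.ONd.refl_mul_mem hQ hn (hq0 i) hv₀0 (by rw [hv₀, hq])
        have h7 := Subgroup.mul_mem _ h5 h6
        rwa [← mul_assoc] at h7
  obtain ⟨s, h1, -, h3, -⟩ := key Finset.univ
  rw [Finset.card_univ, Fintype.card_fin] at h3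
  refine ⟨s, h3 hev, ?_, ?_⟩
  · intro x hx
    have h4 : (⟨x, hx⟩ : A) = ∑ i, b.repr ⟨x, hx⟩ i • b i := (b.sum_repr _).symm
    have h5 : x = ∑ i, b.repr ⟨x, hx⟩ i • e i := by
      have := congrArg (Submodule.subtype A) h4
      rw [map_sum] at this
      simpa using this
    rw [h5, map_sum]
    refine B.sum_mem fun i _ => ?_
    rw [map_smul, (h1 i (Finset.mem_univ i)).1]
    exact B.smul_mem _ (hfB i)
  · intro x hx
    have h5 : x = ∑ i, polar Q x (e i) • f i := by
      rw [← sub_eq_zero]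
      set d := x - ∑ i, polar Q x (e i) • f i with hd
      have hdB : d ∈ B := B.sub_mem hx (B.sum_mem fun i _ => B.smul_mem _ (hfB i))
      have hde : ∀ j, polar Q d (e j) = 0 := by
        intro j
        have : bl Q (∑ i, polar Q x (e i) • f i) (e j) = polar Q x (e j) := by
          rw [map_sum, LinearMap.sum_apply, Finset.sum_eq_single j]
          · rw [bl_apply, p_smul, hfe, if_pos rfl, mul_one]
          · intro i _ hij
            rw [bl_apply, p_smul, hfe, if_neg (Ne.symm hij), mul_zero]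
          · intro h; exact absurd (Finset.mem_univ j) h
        rw [hd, p_sub, sub_eq_zero]
        exact this.symm
      apply hQ
      intro y
      obtain ⟨a, ha, c, hc, rfl⟩ := T.dec y
      rw [p_add', T.pB hdB hc, add_zero]
      have h4 : (⟨a, ha⟩ : A) = ∑ i, b.repr ⟨a, ha⟩ i • b i := (b.sum_repr _).symm
      have h6 : a = ∑ i, b.repr ⟨a, ha⟩ i • e i := by
        have := congrArg (Submodule.subtype A) h4
        rw [map_sum] at this
        simpa using this
      have h7 : bl Q d a = 0 := by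
        rw [h6, map_sum]
        refine Finset.sum_eq_zero fun i _ => ?_
        rw [map_smul, bl_apply, hde, smul_zero]
      exact h7
    rw [h5, map_sum]
    refine A.sum_mem fun i _ => ?_
    rw [map_smul, (h1 i (Finset.mem_univ i)).2]
    exact A.smul_mem _ (heA i)

/-- Main theorem. -/
theorem overgroup [Finite F] (hQ : ND Q) (hn : 9 ≤ finrank F V) (T : TPair Q A B)
    (hk : 5 ≤ finrank F A) (hAB : finrank F A = finrank F B) (hev : Even (finrank F A))
    (M : Subgroup (V ≃ₗ[F] V)) (hMO : M ≤ O Q)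
    (hM : ∀ x ∈ ⁅O Q, O Q⁆, Perm A B x → x ∈ M) (hg : ∃ g ∈ M, ¬ Perm A B g) : ⁅O Q, O Q⁆ ≤ M := by
  have hMAB : ∀ u ∈ A, ∀ y ∈ B, polar Q u y = 0 → sie Q u y ∈ M := fun u hu y hy huy =>
    hM _ (sie_mem_omega hQ hn (T.tA u hu) huy) (Or.inl (T.sie_stab hu hy huy))
  have hMBA : ∀ u ∈ B, ∀ y ∈ A, polar Q u y = 0 → sie Q u y ∈ M := fun u hu y hy huy =>
    hM _ (sie_mem_omega hQ hn (T.tB u hu) huy) (Or.inl (T.symm.sie_stab hu hy huy).symm)
  obtain ⟨g, hgM, hgP⟩ := hg
  have hgO := hMO hgM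
  obtain ⟨s, hs, hsA, hsB⟩ := T.exists_swap hQ hn hev
  have hsM : s ∈ M := hM s hs (Or.inr ⟨hsA, hsB⟩)
  have hsO := hMO hsM
  obtain ⟨u, hu, y, hy, huy, a₀, ha₀, a₁, ha₁, b₀, hb₀, b₁, hb₁, hae, hbe, hli⟩ :=
    T.stepA hk (by omega) hgP hAB
  have h1 := conj_mem' hgM (hMAB u hu y hy huy)
  rw [sie_conj (T.tA u hu) huy hgO] at h1
  have q1 : Q (g u) = 0 := by rw [hgO, T.tA u hu]
  have q2 : Q (g y) = 0 := by rw [hgO, T.tB y hy]
  have q3 : polar Q (g u) (g y) = 0 := by rw [polar_map hgO, huy]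
  have hAf : ∃ X Y : Submodule F V, (∀ x ∈ X, Full Q M x) ∧ (∀ x ∈ X, s x ∈ Y) ∧
      ((X = A ∧ Y = B) ∨ (X = B ∧ Y = A)) := by
    rcases hli with hli | hli
    · obtain ⟨p, hp, z, hz, hpz, hsz⟩ := T.lemB hQ hk hMAB ha₀ hb₀ ha₁ hb₁ hae hbe q1 q2 q3 h1 hli
      exact ⟨A, B, fun x hx => T.allA hQ hk hMAB hp hz hpz hsz hx, hsA, Or.inl ⟨rfl, rfl⟩⟩
    · obtain ⟨p, hp, z, hz, hpz, hsz⟩ := T.symm.lemB hQ (by omega) hMBA ha₁ hb₁ ha₀ hb₀
        (by rw [hae, add_comm]) (by rw [hbe, add_comm]) q1 q2 q3 h1 hli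
      exact ⟨B, A, fun x hx => T.symm.allA hQ (by omega) hMBA hp hz hpz hsz hx, hsB, Or.inr ⟨rfl, rfl⟩⟩
  obtain ⟨X, Y, hXf, hXY, hXYe⟩ := hAf
  have hfX : finrank F X = finrank F Y := by
    rcases hXYe with ⟨rfl, rfl⟩ | ⟨rfl, rfl⟩
    · exact hAB
    · exact hAB.symm
  have hYf : ∀ y ∈ Y, Full Q M y := by
    intro y hy
    have hmap : X.map (s : V →ₗ[F] V) = Y := by
      apply Submodule.eq_of_le_of_finrank_eq
      · rintro _ ⟨x, hx, rfl⟩; exact hXY x hx
      · rw [← hfX]; exact LinearEquiv.finrank_map_eq s X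
    rw [← hmap] at hy
    obtain ⟨x, hx, rfl⟩ := hy
    exact (hXf x hx).map hsM hsO
  have hfA : ∀ x ∈ A, Full Q M x := by
    rcases hXYe with ⟨rfl, rfl⟩ | ⟨rfl, rfl⟩
    · exact hXf
    · exact hYf
  have hfB : ∀ x ∈ B, Full Q M x := by
    rcases hXYe with ⟨rfl, rfl⟩ | ⟨rfl, rfl⟩
    · exact hYf
    · exact hXf
  obtain ⟨x, hx, hx0⟩ := Submodule.exists_mem_ne_zero_of_ne_bot (p := A) (by
    rintro rfl; rw [finrank_bot] at hk; omega)
  obtain ⟨z, hz, hz'⟩ := T.dual hQ (x := ![x]) (by intro i; fin_cases i; exact hx) (by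
    rw [linearIndependent_unique_iff]; simpa using hx0) ![1]
  have e1 : polar Q z x = 1 := hz' 0
  exact omega_le_of_full hQ (by omega) (hfA x hx) (hfB z hz) (by rw [e1]; exact one_ne_zero)

theorem exists_not [Finite F] (hQ : ND Q) (hn : 9 ≤ finrank F V) (T : TPair Q A B)
    (hk : 5 ≤ finrank F A) (hAB : finrank F A = finrank F B) : ∃ g ∈ ⁅O Q, O Q⁆, ¬ Perm A B g := by
  obtain ⟨a, ha, ha0⟩ := Submodule.exists_mem_ne_zero_of_ne_bot (p := A) (by
    rintro rfl; rw [finrank_bot] at hk; omega)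
  have h3 := finrank_perpF_ge (bl Q) B ![a]
  rw [Fintype.card_fin] at h3
  obtain ⟨b, hb, hb0⟩ := Submodule.exists_mem_ne_zero_of_ne_bot (p := perpF (bl Q) B ![a]) (by
    intro h0; rw [h0, finrank_bot] at h3; omega)
  have hbB : b ∈ B := hb.1
  have hab : polar Q b a = 0 := hb.2 0
  have hA : a + b ∉ A := fun h => hb0 (T.disj b ((A.add_mem_iff_right ha).1 h) hbB)
  have hB : a + b ∉ B := fun h => ha0 (T.disj a ha ((B.add_mem_iff_left hbB).1 h))
  have h0 : a + b ≠ 0 := fun h => hA (by rw [h]; exact A.zero_mem)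
  obtain ⟨g, hg, -, hga⟩ := trans_val hQ (M := ⁅O Q, O Q⁆) (by omega)
    (fun u hu => ⟨hu, fun y hy => sie_mem_omega hQ hn hu hy⟩) ha0 h0 (by
      rw [Q_add, T.tA a ha, T.tB b hbB, p_comm, hab]; ring)
  refine ⟨g, hg, ?_⟩
  rintro (h | h)
  · exact hA (by rw [← hga]; exact h.1 a ha)
  · exact hB (by rw [← hga]; exact h.1 a ha)

section

open Cfsg Cfsg.Geo H95.Bridge H95.Bridge2 H95.OBridge

variable {ι : Type} [Fintype ι] [DecidableEq ι] {F : Type*} [Field F] [Finite F]

theorem ts_max {Q : QuadraticForm F (ι → F)} (hQ : ND Q) (hn : 9 ≤ Fintype.card ι)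
    {D : Fin 2 → Submodule F (ι → F)} (T : TPair Q (D 0) (D 1)) (hk : 5 ≤ finrank F (D 0))
    (hAB : finrank F (D 0) = finrank F (D 1)) (hev : Even (finrank F (D 0))) :
    IsMaximalIn (omegaGL (⇑Q)) (decompositionStabilizer D ⊓ omegaGL (⇑Q)) := by
  have hfr : finrank F (ι → F) = Fintype.card ι := Module.finrank_fintype_fun_eq_card F
  have hmem := mem_omegaGL Q
  apply isMaximalIn_of
  · obtain ⟨g, hg, hgp⟩ := exists_not hQ (by omega) T hk hAB
    refine ⟨(toEq _ F).symm g, ?_, ?_⟩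
    · rw [hmem, MulEquiv.apply_symm_apply]; exact hg
    · rw [mem_decomp_two hAB, MulEquiv.apply_symm_apply]; exact hgp
  · intro M hHM hMK ⟨g, hg, hgS⟩
    refine le_of_map hmem (overgroup hQ (by omega) T hk hAB hev _ ?_ ?_ ?_)
    · rintro _ ⟨x, hx, rfl⟩
      exact omega_le_O Q ((hmem x).1 (hMK hx))
    · intro x hx hσ
      rw [mem_map_toEq]
      refine hHM ⟨?_, ?_⟩
      · show (toEq ι F).symm x ∈ decompositionStabilizer D
        rw [mem_decomp_two hAB, MulEquiv.apply_symm_apply]; exact hσ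
      · exact (hmem _).2 (by rw [MulEquiv.apply_symm_apply]; exact hx)
    · exact ⟨toEq _ F g, ⟨g, hg, rfl⟩, fun hp => hgS ((mem_decomp_two hAB).2 hp)⟩

end

end H95.OTs
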