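import Mathlib
import Cfsg.Agent.Lib.H95.RatBridge
import Cfsg.Agent.Lib.H95.RatMainS2

set_option autoImplicit false

/-!
Subfield subgroups and rational structures: dimension at least six.
-/

namespace H95.RatBridgeS

open Module Cfsg Cfsg.Geo H95.Bridge H95.UBasic H95.Pol H95.RatGeoS H95.RatMainS
open H95.RatBridge (jmap form₀ form₀_apply jmap_smul jmap_injective span_jmap retr_jmap prime_ext)
open scoped Matrix MatrixGroups

variable {ι : Type} [Fintype ι] [DecidableEq ι] {F : Type*} [Field F]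
variable {σ : F →+* F}

/-- Construction of the rational structure. -/
lemma mkRat [Finite F] {F₀ : Subfield F} {P : GL ι F} {h : (ι → F) →ₗ[F] (ι → F) →ₛₗ[σ] F}
    {σ₀ : F₀ →+* F₀} {hσ : ∀ c : F₀, σ c = σ₀ c}
    {hr : ∀ u v, h (jmap F₀ P u) (jmap F₀ P v) ∈ F₀} {r : ℕ} (hrp : r.Prime)
    (hcard : Nat.card F = Nat.card F₀ ^ r) (H : IsPol h) (hι : 6 ≤ Fintype.card ι)
    (hcorr : IsPol (form₀ F₀ P h σ₀ hσ hr) → ∀ (l : Fin 5 → (ι → F₀)) (x : ι → F₀),
      ∃ x', form₀ F₀ P h σ₀ hσ hr x' x' = 0 ∧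
        ∀ i, form₀ F₀ P h σ₀ hσ hr x' (l i) = form₀ F₀ P h σ₀ hσ hr x (l i))
    (hnorm : ∀ c, σ c = c → ∃ a b, c = a * σ a - b * σ b) :
    Rat (form₀ F₀ P h σ₀ hσ hr) h (jmap F₀ P) := by
  have hpol₀ : IsPol (form₀ F₀ P h σ₀ hσ hr) := by
    refine ⟨fun a => Subtype.ext ?_, fun x y => Subtype.ext ?_, fun v hv => ?_⟩
    · rw [← hσ, ← hσ, H.inv]
    · rw [form₀_apply, H.skew, ← form₀_apply (hσ := hσ) (hr := hr), hσ]; simp
    · apply jmap_injective F₀ P
      apply H.nd
      intro w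
      induction span_jmap F₀ P w using Submodule.span_induction with
      | mem x hx =>
        obtain ⟨z, rfl⟩ := hx
        rw [← form₀_apply (hσ := hσ) (hr := hr), hv]; simp
      | zero => simp
      | add x y _ _ hx hy => rw [map_add, hx, hy, add_zero]
      | smul a x _ hx => rw [map_smulₛₗ, hx, smul_zero]
  exact
    { pol := H
      pol₀ := hpol₀
      smul := fun c x => jmap_smul F₀ P c x
      form := fun x y => rfl
      sig := fun c => hσ c
      retr := fun φ => retr_jmap F₀ P φ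
      span := fun v => span_jmap F₀ P v
      corr := hcorr hpol₀
      dim := by rw [Module.finrank_fintype_fun_eq_card]; exact hι
      prime := fun Y hY => prime_ext hrp hcard Y hY
      norm := hnorm }

/-- Rational unipotent elements preserve the rational structure. -/
lemma Eg_rat {K F W V : Type*} [Field K] [Field F] [Algebra K F] [AddCommGroup W] [Module K W]
    [AddCommGroup V] [Module F V] {σ₀ : K →+* K} {σ : F →+* F}
    {h₀ : W →ₗ[K] W →ₛₗ[σ₀] K} {h : V →ₗ[F] V →ₛₗ[σ] F} {j : W →+ V} (R : Rat h₀ h j)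
    {u y : W} {c : K} (hv : Val h₀ u y c) :
    Val h (j u) (j y) (algebraMap K F c) ∧ ∀ x, Eg h (j u) (j y) (algebraMap K F c) (j x) =
      j (x + h₀ x y • u + h₀ x u • y + (c * h₀ x u) • u) := by
  have v1 : Val h (j u) (j y) (algebraMap K F c) := by
    refine ⟨R.form_zero.2 hv.1, R.form_zero.2 hv.2.1, ?_⟩
    rw [R.form, R.sig, ← map_sub, hv.2.2]
  refine ⟨v1, fun x => ?_⟩
  rw [Eg_apply R.pol v1, map_add, map_add, map_add, R.smul, R.smul, R.smul, R.form, R.form, map_mul]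

/-- A transvection with non-rational coefficient is not rational. -/
lemma not_rat {K F W V : Type*} [Field K] [Field F] [Algebra K F] [AddCommGroup W] [Module K W]
    [AddCommGroup V] [Module F V] {σ₀ : K →+* K} {σ : F →+* F}
    {h₀ : W →ₗ[K] W →ₛₗ[σ₀] K} {h : V →ₗ[F] V →ₛₗ[σ] F} {j : W →+ V} [FiniteDimensional K W]
    (R : Rat h₀ h j) {c : F} (hc : σ c = c) (hcK : ∀ k : K, algebraMap K F k ≠ c) :
    ∃ u, h u u = 0 ∧ ¬ ∃ l : F, l ≠ 0 ∧ ∀ x : W, ∃ y : W, rf h u c (j x) = l • j y := by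
  obtain ⟨u, hu, -, hu'⟩ := R.perp_iso (k := 0) (by omega) ![]
  have hu0 : u ≠ 0 := by
    rintro rfl; exact hu' (Submodule.zero_mem _)
  obtain ⟨x, hx, hx'⟩ := R.dual_iso (k := 1) (x := ![u]) (by omega) (by
    rw [linearIndependent_unique_iff]; simpa using hu0) ![1]
  have e1 : h₀ x u = 1 := hx' 0
  refine ⟨j u, R.form_zero.2 hu, ?_⟩
  rintro ⟨l, hl, h1⟩
  obtain ⟨y, hy⟩ := h1 x
  rw [tr_apply (R.form_zero.2 hu) hc, R.form, e1, map_one, mul_one] at hy
  have hli : LinearIndependent K ![u, x] := by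
    apply pair_indep hu0
    intro a ha
    rw [ha, map_smul, LinearMap.smul_apply, hu, smul_zero] at e1
    exact zero_ne_one e1
  have hsum : ∑ i, ![c / l, 1 / l] i • j (![u, x] i) = j y := by
    rw [Fin.sum_univ_two]
    show (c / l) • j u + (1 / l) • j x = j y
    have : (c / l) • j u + (1 / l) • j x = l⁻¹ • (j x + c • j u) := by
      rw [smul_add, smul_smul, div_eq_inv_mul, one_div]; abel
    rw [this, hy, smul_smul, inv_mul_cancel₀ hl, one_smul]
  obtain ⟨a, ha⟩ := R.coeff hli hsum 0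
  obtain ⟨b, hb⟩ := R.coeff hli hsum 1
  have ha' : algebraMap K F a = c / l := ha
  have hb' : algebraMap K F b = 1 / l := hb
  apply hcK (a / b)
  rw [map_div₀, ha', hb']
  field_simp

end H95.RatBridgeS
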