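import Mathlib
import Cfsg.Agent.Lib.H95.SpBasic

set_option autoImplicit false

/-!
Orthogonal projections on non-degenerate subspaces, isometries between symplectic spaces of the
same dimension.
-/

namespace H95.SpGeom

open Module H95.SpBasic

variable {F V : Type*} [Field F] [AddCommGroup V] [Module F V]

/-- Orthogonal projection on a subspace on which the form is non-degenerate. Works for
arbitrary bilinear forms that are left non-degenerate on `U`. -/
lemma exists_proj (B : LinearMap.BilinForm F V) [FiniteDimensional F V] (U : Submodule F V)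
    (hnd : ∀ v ∈ U, (∀ w ∈ U, B v w = 0) → v = 0) :
    ∃ p : V →ₗ[F] V, (∀ x, p x ∈ U) ∧ (∀ x, ∀ u ∈ U, B (p x) u = B x u) := by
  let φ : U →ₗ[F] Dual F U := (B.domRestrict₁₂ U U)
  have hφ : Function.Injective φ := by
    rw [← LinearMap.ker_eq_bot, LinearMap.ker_eq_bot']
    intro m hm
    have : (m : V) = 0 := by
      apply hnd _ m.2
      intro w hw
      exact congrArg (fun f : Dual F U => f ⟨w, hw⟩) hm
    exact Subtype.ext this
  let e := LinearMap.linearEquivOfInjective φ hφ (Subspace.dual_finrank_eq).symm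
  refine ⟨U.subtype ∘ₗ e.symm.toLinearMap ∘ₗ (LinearMap.lcomp F F U.subtype) ∘ₗ B, ?_, ?_⟩
  · intro x
    exact Submodule.coe_mem _
  · intro x u hu
    have h : e (e.symm ((LinearMap.lcomp F F U.subtype) (B x))) = (LinearMap.lcomp F F U.subtype) (B x) :=
      e.apply_symm_apply _
    have h2 := congrArg (fun f : Dual F U => f ⟨u, hu⟩) h
    have h3 : ∀ y : U, e y ⟨u, hu⟩ = B y u := fun y => rfl
    rw [h3] at h2
    exact h2

lemma proj_of_mem {B : LinearMap.BilinForm F V} {U : Submodule F V}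
    (hnd : ∀ v ∈ U, (∀ w ∈ U, B v w = 0) → v = 0) {p : V →ₗ[F] V}
    (h1 : ∀ x, p x ∈ U) (h2 : ∀ x, ∀ u ∈ U, B (p x) u = B x u) {x : V} (hx : x ∈ U) :
    p x = x := by
  have : p x - x = 0 := by
    apply hnd _ (U.sub_mem (h1 x) hx)
    intro w hw
    rw [map_sub, LinearMap.sub_apply, h2 x w hw, sub_self]
  exact sub_eq_zero.1 this

lemma proj_of_orth {B : LinearMap.BilinForm F V} {U : Submodule F V}
    (hnd : ∀ v ∈ U, (∀ w ∈ U, B v w = 0) → v = 0) {p : V →ₗ[F] V}
    (h1 : ∀ x, p x ∈ U) (h2 : ∀ x, ∀ u ∈ U, B (p x) u = B x u) {x : V}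
    (hx : ∀ u ∈ U, B x u = 0) : p x = 0 := by
  apply hnd _ (h1 x)
  intro w hw
  rw [h2 x w hw, hx w hw]

/-- The part of a subspace orthogonal to two vectors. -/
def orth2 (B : LinearMap.BilinForm F V) (U : Submodule F V) (u v : V) : Submodule F V :=
  U ⊓ (LinearMap.ker (B.flip u) ⊓ LinearMap.ker (B.flip v))

lemma mem_orth2 {B : LinearMap.BilinForm F V} {U : Submodule F V} {u v x : V} :
    x ∈ orth2 B U u v ↔ x ∈ U ∧ B x u = 0 ∧ B x v = 0 := by
  simp [orth2, LinearMap.mem_ker]

lemma orth2_decomp {B : LinearMap.BilinForm F V} (hB : B.IsAlt) {U : Submodule F V} {u v : V}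
    (hu : u ∈ U) (hv : v ∈ U) (huv : B u v = 1) {x : V} (hx : x ∈ U) :
    x - B x v • u + B x u • v ∈ orth2 B U u v := by
  have h1 : B u u = 0 := hB u
  have h2 : B v v = 0 := hB v
  have h3 : B v u = -1 := by rw [← LinearMap.BilinForm.IsAlt.neg_eq hB u v, huv]
  rw [mem_orth2]
  refine ⟨U.add_mem (U.sub_mem hx (U.smul_mem _ hu)) (U.smul_mem _ hv), ?_, ?_⟩
  · simp [h1, h3]
  · simp [h2, huv]

lemma orth2_nondeg {B : LinearMap.BilinForm F V} (hB : B.IsAlt) {U : Submodule F V}
    (hnd : ∀ v ∈ U, (∀ w ∈ U, B v w = 0) → v = 0) {u v : V}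
    (hu : u ∈ U) (hv : v ∈ U) (huv : B u v = 1) :
    ∀ x ∈ orth2 B U u v, (∀ w ∈ orth2 B U u v, B x w = 0) → x = 0 := by
  intro x hx h
  rw [mem_orth2] at hx
  apply hnd x hx.1
  intro w hw
  have h1 := h _ (orth2_decomp hB hu hv huv hw)
  simp only [map_add, map_sub, map_smul, smul_eq_mul] at h1
  rw [hx.2.1, hx.2.2] at h1
  simpa using h1

lemma orth2_finrank {B : LinearMap.BilinForm F V} (hB : B.IsAlt) [FiniteDimensional F V]
    {U : Submodule F V} {u v : V} (hu : u ∈ U) (hv : v ∈ U) (huv : B u v = 1) :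
    finrank F (orth2 B U u v) + 2 = finrank F U := by
  have h1 : B u u = 0 := hB u
  have h2 : B v v = 0 := hB v
  have h3 : B v u = -1 := by rw [← LinearMap.BilinForm.IsAlt.neg_eq hB u v, huv]
  -- the map U → F × F
  let φ : U →ₗ[F] (F × F) := ((B.flip u).comp U.subtype).prod ((B.flip v).comp U.subtype)
  have hsurj : LinearMap.range φ = ⊤ := by
    rw [LinearMap.range_eq_top]
    intro ⟨a, b⟩
    refine ⟨⟨(b • u - a • v), U.sub_mem (U.smul_mem _ hu) (U.smul_mem _ hv)⟩, ?_⟩
    simp [φ, h1, h2, h3, huv]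
  have hker : finrank F (LinearMap.ker φ) = finrank F (orth2 B U u v) := by
    have : (LinearMap.ker φ).map U.subtype = orth2 B U u v := by
      ext x
      simp only [Submodule.mem_map, LinearMap.mem_ker, mem_orth2]
      constructor
      · rintro ⟨y, hy, rfl⟩
        have hy' := Prod.ext_iff.1 hy
        exact ⟨y.2, hy'.1, hy'.2⟩
      · rintro ⟨hx, h4, h5⟩
        exact ⟨⟨x, hx⟩, Prod.ext h4 h5, rfl⟩
    rw [← this]
    exact LinearEquiv.finrank_eq (Submodule.equivSubtypeMap U (LinearMap.ker φ))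
  have := LinearMap.finrank_range_add_finrank_ker φ
  rw [hsurj, hker, finrank_top, finrank_prod, finrank_self] at this
  omega

lemma exists_hyp (B : LinearMap.BilinForm F V) (T : Submodule F V)
    (hT : ∀ v ∈ T, (∀ w ∈ T, B v w = 0) → v = 0) (h : T ≠ ⊥) : ∃ u ∈ T, ∃ v ∈ T, B u v = 1 := by
  obtain ⟨u, huT, hu⟩ := Submodule.exists_mem_ne_zero_of_ne_bot h
  have : ∃ w ∈ T, B u w ≠ 0 := by
    by_contra hcon; push Not at hcon; exact hu (hT u huT hcon)
  obtain ⟨w, hwT, hw⟩ := this
  exact ⟨u, huT, (B u w)⁻¹ • w, T.smul_mem _ hwT, by simp [hw]⟩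

/-- Two non-degenerate symplectic subspaces of the same dimension are isometric. -/
theorem exists_isometry_aux {V' : Type*} [AddCommGroup V'] [Module F V'] [FiniteDimensional F V]
    [FiniteDimensional F V'] (B : LinearMap.BilinForm F V) (B' : LinearMap.BilinForm F V')
    (hB : B.IsAlt) (hB' : B'.IsAlt) :
    ∀ (n : ℕ) (U : Submodule F V) (U' : Submodule F V'),
    (∀ v ∈ U, (∀ w ∈ U, B v w = 0) → v = 0) → (∀ v ∈ U', (∀ w ∈ U', B' v w = 0) → v = 0) →
    finrank F U = n → finrank F U' = n →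
    ∃ e : V →ₗ[F] V', (∀ x ∈ U, e x ∈ U') ∧ ∀ x ∈ U, ∀ y ∈ U, B' (e x) (e y) = B x y := by
  intro n
  induction n using Nat.strong_induction_on with
  | _ n ih =>
    intro U U' hnd hnd' hU hU'
    by_cases hn : n = 0
    · subst hn
      have h1 : U = ⊥ := Submodule.finrank_eq_zero.1 hU
      refine ⟨0, fun x hx => by simp, fun x hx y hy => ?_⟩
      rw [h1, Submodule.mem_bot] at hx
      simp [hx]
    · obtain ⟨u, hu, v, hv, huv⟩ := exists_hyp B U hnd (by
        intro h; rw [h, finrank_bot] at hU; omega)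
      obtain ⟨u', hu', v', hv', huv'⟩ := exists_hyp B' U' hnd' (by
        intro h; rw [h, finrank_bot] at hU'; omega)
      have hf := orth2_finrank hB hu hv huv
      have hf' := orth2_finrank hB' hu' hv' huv'
      obtain ⟨e, he1, he2⟩ := ih (finrank F (orth2 B U u v)) (by omega) (orth2 B U u v)
        (orth2 B' U' u' v') (orth2_nondeg hB hnd hu hv huv) (orth2_nondeg hB' hnd' hu' hv' huv')
        rfl (by omega)
      have g1 : B' u' u' = 0 := hB' u'
      have g2 : B' v' v' = 0 := hB' v'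
      have g3 : B' v' u' = -1 := by rw [← LinearMap.BilinForm.IsAlt.neg_eq hB' u' v', huv']
      have f1 : B u u = 0 := hB u
      have f2 : B v v = 0 := hB v
      have f3 : B v u = -1 := by rw [← LinearMap.BilinForm.IsAlt.neg_eq hB u v, huv]
      let P : V →ₗ[F] V := LinearMap.id - (B.flip v).smulRight u + (B.flip u).smulRight v
      have hP : ∀ x, P x = x - B x v • u + B x u • v := fun x => rfl
      let e' : V →ₗ[F] V' := (B.flip v).smulRight u' - (B.flip u).smulRight v' + e ∘ₗ P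
      have he' : ∀ x, e' x = B x v • u' - B x u • v' + e (P x) := fun x => rfl
      have hPm : ∀ x ∈ U, P x ∈ orth2 B U u v := fun x hx => by
        rw [hP]; exact orth2_decomp hB hu hv huv hx
      refine ⟨e', ?_, ?_⟩
      · intro x hx
        rw [he']
        have := (mem_orth2.1 (he1 _ (hPm x hx))).1
        exact U'.add_mem (U'.sub_mem (U'.smul_mem _ hu') (U'.smul_mem _ hv')) this
      · intro x hx y hy
        have hx1 := mem_orth2.1 (he1 _ (hPm x hx))
        have hy1 := mem_orth2.1 (he1 _ (hPm y hy))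
        have hxy := he2 _ (hPm x hx) _ (hPm y hy)
        have hy2 : B' u' (e (P y)) = 0 := by
          rw [← LinearMap.BilinForm.IsAlt.neg_eq hB', hy1.2.1, neg_zero]
        have hy3 : B' v' (e (P y)) = 0 := by
          rw [← LinearMap.BilinForm.IsAlt.neg_eq hB', hy1.2.2, neg_zero]
        rw [he', he']
        simp only [map_add, map_sub, map_smul, LinearMap.add_apply, LinearMap.sub_apply,
          LinearMap.smul_apply, smul_eq_mul, g1, g2, g3, huv', hx1.2.1, hx1.2.2, hy2, hy3, hxy]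
        have hvy : B v y = - B y v := (LinearMap.BilinForm.IsAlt.neg_eq hB y v).symm
        have huy : B u y = - B y u := (LinearMap.BilinForm.IsAlt.neg_eq hB y u).symm
        rw [hP, hP]
        simp only [map_add, map_sub, map_smul, LinearMap.add_apply, LinearMap.sub_apply,
          LinearMap.smul_apply, smul_eq_mul, f1, f2, f3, huv, hvy, huy]
        ring

/-- A linear equivalence version, on subspaces of one space: an isometry `e` from `U` onto `U'`. -/
theorem exists_isometry_sub [FiniteDimensional F V] (B : LinearMap.BilinForm F V)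
    (hB : B.IsAlt) (U U' : Submodule F V)
    (hnd : ∀ v ∈ U, (∀ w ∈ U, B v w = 0) → v = 0) (hnd' : ∀ v ∈ U', (∀ w ∈ U', B v w = 0) → v = 0)
    (hr : finrank F U = finrank F U') :
    ∃ e e' : V →ₗ[F] V, (∀ x ∈ U, e x ∈ U') ∧ (∀ x ∈ U', e' x ∈ U) ∧ (∀ x ∈ U, e' (e x) = x) ∧
      (∀ x ∈ U', e (e' x) = x) ∧ (∀ x ∈ U, ∀ y ∈ U, B (e x) (e y) = B x y) ∧
      (∀ x ∈ U', ∀ y ∈ U', B (e' x) (e' y) = B x y) := by
  obtain ⟨e, he1, he2⟩ := exists_isometry_aux B B hB hB _ U U' hnd hnd' hr rfl
  -- restrict e to an equivalence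
  let f : U →ₗ[F] U' := (e.restrict he1)
  have hf : ∀ x : U, ((f x : U') : V) = e x := fun x => rfl
  have hinj : Function.Injective f := by
    rw [← LinearMap.ker_eq_bot, LinearMap.ker_eq_bot']
    intro m hm
    have hm' : e (m : V) = 0 := by rw [← hf, hm]; rfl
    apply Subtype.ext
    apply hnd _ m.2
    intro w hw
    rw [← he2 _ m.2 _ hw, hm']; simp
  let g := LinearMap.linearEquivOfInjective f hinj hr
  have hg : ∀ x : U, ((g x : U') : V) = e x := fun x => rfl
  obtain ⟨q, hq⟩ := Submodule.exists_isCompl U'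
  let e' : V →ₗ[F] V := U.subtype ∘ₗ g.symm.toLinearMap ∘ₗ (Submodule.projectionOnto U' q hq)
  have he' : ∀ x : U', e' (x : V) = ((g.symm x : U) : V) := by
    intro x
    simp only [e', LinearMap.comp_apply, Submodule.projectionOnto_apply_left]; rfl
  have h4 : ∀ x ∈ U', e (e' x) = x := by
    intro x hx
    rw [he' ⟨x, hx⟩, ← hg, g.apply_symm_apply]
  have h2 : ∀ x ∈ U', e' x ∈ U := by
    intro x hx
    rw [he' ⟨x, hx⟩]; exact Submodule.coe_mem _
  have h3 : ∀ x ∈ U, e' (e x) = x := by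
    intro x hx
    have : e x = ((g ⟨x, hx⟩ : U') : V) := (hg ⟨x, hx⟩).symm
    rw [this, he', g.symm_apply_apply]
  refine ⟨e, e', he1, h2, h3, h4, he2, ?_⟩
  intro x hx y hy
  rw [← he2 _ (h2 x hx) _ (h2 y hy), h4 x hx, h4 y hy]

end H95.SpGeom
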