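import Cfsg.Agent.Lib.H34.SpWB

/-!
# S5707: an element of the commutator subgroup outside the normaliser of the Clifford space
-/

set_option autoImplicit false
set_option linter.all false

namespace H95.SpWF

open Matrix Cfsg.Geo H34.SpW

variable {F : Type*} [Field F] {ι : Type} [Fintype ι] [DecidableEq ι] {k t : ℕ} {Q : (ι → F) → F}
  {f : (Fin k → F) → (Fin k → F) → F} {H : Subgroup (GL ι F)}

theorem N_lin (hQ : IsNondegenerateQuadraticForm Q) (x y : ι → F) :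
    ∃ M : Matrix ι ι F, ∀ w, M *ᵥ w = N Q x y w := by
  have hB := hQ.polar_bilinear
  let l : (ι → F) →ₗ[F] (ι → F) :=
    { toFun := N Q x y
      map_add' := by
        intro a b
        simp only [N, hB.add_left]
        module
      map_smul' := by
        intro c a
        simp only [N, hB.smul_left, RingHom.id_apply]
        module }
  exact ⟨LinearMap.toMatrix' l, fun w => by rw [LinearMap.toMatrix'_mulVec]; rfl⟩

theorem N_inv (hQ : IsNondegenerateQuadraticForm Q) (h2 : (2 : F) = 0) {x y : ι → F}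
    (hxy : QuadraticMap.polar Q x y = 0) (w : ι → F) : N Q x y (N Q x y w) = w := by
  have hB := hQ.polar_bilinear
  have hyx : QuadraticMap.polar Q y x = 0 := by rw [QuadraticMap.polar_comm]; exact hxy
  have hxx := B_self hQ h2 x
  have hyy := B_self hQ h2 y
  funext i
  simp only [N, hB.add_left, hB.smul_left, hxy, hyx, hxx, hyy, Pi.add_apply, Pi.smul_apply, smul_eq_mul, mul_zero,
    add_zero, zero_add]
  linear_combination (QuadraticMap.polar Q w x * y i + QuadraticMap.polar Q w y * x i) * h2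

theorem exN (hQ : IsNondegenerateQuadraticForm Q) (h2 : (2 : F) = 0) {x y : ι → F} (hx : Q x = 0) (hy : Q y = 0)
    (hxy : QuadraticMap.polar Q x y = 0) :
    ∃ g : GL ι F, g ∈ Cfsg.isometryGroup F Q ∧ g⁻¹ = g ∧ ∀ w, (g : Matrix ι ι F) *ᵥ w = N Q x y w := by
  obtain ⟨M, hM⟩ := N_lin hQ x y
  have hMM : M * M = 1 := by
    apply Matrix.mulVec_injective
    funext v
    rw [← mulVec_mulVec, hM, hM, N_inv hQ h2 hxy, one_mulVec]
  refine ⟨⟨M, M, hMM, hMM⟩, ?_, rfl, hM⟩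
  intro u v
  show Q (M *ᵥ u) = Q u
  rw [hM, N_iso hQ h2 hx hy hxy]

theorem prod_adj (D : KD k t f) (x s : Fin t → Fin k → F) :
    ∏ i, f (x i) (Function.update s D.i₀ (D.E *ᵥ s D.i₀) i) =
      ∏ i, f (Function.update x D.i₀ (D.E *ᵥ x D.i₀) i) (s i) := by
  apply Finset.prod_congr rfl
  intro i _
  by_cases hi : i = D.i₀
  · rw [hi, Function.update_self, Function.update_self, D.adjE]
  · rw [Function.update_of_ne hi, Function.update_of_ne hi]

theorem exF (h2 : (2 : F) = 0) (hQ : IsNondegenerateQuadraticForm Q) (hf : IsSymplecticForm f) (ht : 2 ≤ t)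
    (S : TS k t Q f H) (D : KD k t f) : ∃ u ∈ omegaGL Q, u ∉ NW S D := by
  have hB := hQ.polar_bilinear
  have cm := fun u w : ι → F => QuadraticMap.polar_comm Q u w
  have z2 : ∀ v, QuadraticMap.polar Q v 0 = 0 := by
    intro v
    have := hB.smul_right 0 v 0
    simpa using this
  -- the vectors
  obtain ⟨X, hX⟩ : ∃ X, X = S.T D.x := ⟨_, rfl⟩
  obtain ⟨Y, hY⟩ : ∃ Y, Y = S.T D.y := ⟨_, rfl⟩
  obtain ⟨V, hV⟩ : ∃ V, V = S.T D.s := ⟨_, rfl⟩
  obtain ⟨Z, hZ⟩ : ∃ Z, Z = S.T D.z := ⟨_, rfl⟩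
  obtain ⟨X', hX'⟩ : ∃ X', X' = S.T (Function.update D.x D.i₀ (D.E *ᵥ D.x D.i₀)) := ⟨_, rfl⟩
  obtain ⟨V', hV'⟩ : ∃ V', V' = S.T (Function.update D.s D.i₀ (D.E *ᵥ D.s D.i₀)) := ⟨_, rfl⟩
  obtain ⟨m, hm⟩ : ∃ m, m = QuadraticMap.polar Q V Z := ⟨_, rfl⟩
  have hXQ : Q X = 0 := by rw [hX]; exact S.sing _
  have hYQ : Q Y = 0 := by rw [hY]; exact S.sing _
  have hVQ : Q V = 0 := by rw [hV]; exact S.sing _
  have hZQ : Q Z = 0 := by rw [hZ]; exact S.sing _
  have hXY : QuadraticMap.polar Q X Y = 0 := by rw [hX, hY, S.pol, D.hxy, mul_zero]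
  have hXV : QuadraticMap.polar Q X V = 0 := by rw [hX, hV, S.pol, D.hxs, mul_zero]
  have hXZ : QuadraticMap.polar Q X Z = 0 := by rw [hX, hZ, S.pol, D.hxz, mul_zero]
  have hYV : QuadraticMap.polar Q Y V = 0 := by rw [hY, hV, S.pol, D.hys, mul_zero]
  have hYZ : QuadraticMap.polar Q Y Z = 0 := by rw [hY, hZ, S.pol, D.hyz, mul_zero]
  have hm0 : m ≠ 0 := by rw [hm, hV, hZ, S.pol]; exact mul_ne_zero S.hc D.hsz
  have hX'Y : QuadraticMap.polar Q X' Y ≠ 0 := by rw [hX', hY, S.pol]; exact mul_ne_zero S.hc D.hxy'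
  have hX'X : QuadraticMap.polar Q X' X = 0 := by
    rw [hX', hX, S.pol]
    obtain ⟨j, hj⟩ : ∃ j : Fin t, j ≠ D.i₀ := by
      have : Nontrivial (Fin t) := Fin.nontrivial_iff_two_le.2 ht
      exact exists_ne _
    rw [Finset.prod_eq_zero (Finset.mem_univ j) (by rw [Function.update_of_ne hj]; exact hf.alternating _), mul_zero]
  have hV'X : QuadraticMap.polar Q V' X = 0 := by
    rw [cm, hV', hX, S.pol, prod_adj, D.hxs', mul_zero]
  have hV'Y : QuadraticMap.polar Q V' Y = 0 := by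
    rw [cm, hV', hY, S.pol, prod_adj, D.hys', mul_zero]
  obtain ⟨A, hA⟩ : ∃ A, A = S.φ D.i₀ D.E := ⟨_, rfl⟩
  have hAW : A ∈ W S D := by rw [hA]; exact mem_W S D _ D.hE
  have hAX : A *ᵥ X = X' := by rw [hA, hX, S.hφ, hX']
  have hAV : A *ᵥ V = V' := by rw [hA, hV, S.hφ, hV']
  have hV0 : V ≠ 0 := by
    intro h0
    apply hm0
    rw [hm, h0, cm, z2]
  have hX0 : X ≠ 0 := by
    intro h0
    apply hX'Y
    rw [← hAX, h0, mulVec_zero, cm, z2]
  -- the element
  obtain ⟨g1, hg1, hg1i, hg1v⟩ := exN hQ h2 hYQ hZQ hYZ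
  obtain ⟨g2, hg2, hg2i, hg2v⟩ := exN hQ h2 hXQ hVQ hXV
  obtain ⟨u, hu⟩ : ∃ u, u = g1 * g2 * g1⁻¹ * g2⁻¹ := ⟨_, rfl⟩
  have huv : ∀ w, (u : Matrix ι ι F) *ᵥ w = N Q X (m • Y) w := by
    intro w
    rw [hu, hg1i, hg2i, Units.val_mul, Units.val_mul, Units.val_mul, ← mulVec_mulVec, ← mulVec_mulVec, ← mulVec_mulVec,
      hg2v, hg1v, hg2v, hg1v, N_comm hQ h2 hXY hXV hXZ hYV hYZ, hm]
  refine ⟨u, ?_, ?_⟩
  · refine ⟨⟨g1, hg1⟩ * ⟨g2, hg2⟩ * (⟨g1, hg1⟩)⁻¹ * (⟨g2, hg2⟩)⁻¹, ?_, ?_⟩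
    · have := Subgroup.commutator_mem_commutator (Subgroup.mem_top (⟨g1, hg1⟩ : Cfsg.isometryGroup F Q))
        (Subgroup.mem_top (⟨g2, hg2⟩ : Cfsg.isometryGroup F Q))
      exact this
    · rw [hu]; rfl
  · intro huN
    have hR1 := huN.1 A hAW
    have hR2 := (W S D).add_mem hR1 hAW
    obtain ⟨c, hc⟩ := W_sq h2 S D hR2
    have huX : (u : Matrix ι ι F) *ᵥ X = X := by
      rw [huv, N, B_self hQ h2, hB.smul_right, hXY, mul_zero, zero_smul, zero_smul, add_zero, add_zero]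
    have huV : (u : Matrix ι ι F) *ᵥ V = V := by
      rw [huv, N, cm V X, hXV, hB.smul_right, cm V Y, hYV, mul_zero, zero_smul, zero_smul, add_zero, add_zero]
    have inv : ∀ w, (u : Matrix ι ι F) *ᵥ w = w → ((u⁻¹ : GL ι F) : Matrix ι ι F) *ᵥ w = w := by
      intro w hw
      conv_lhs => rw [← hw]
      rw [mulVec_mulVec, ← Units.val_mul, inv_mul_cancel, Units.val_one, one_mulVec]
    have huX' : (u : Matrix ι ι F) *ᵥ X' = X' + (m * QuadraticMap.polar Q X' Y) • X := by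
      rw [huv, N, hX'X, hB.smul_right, zero_smul, zero_add]
    have huV' : (u : Matrix ι ι F) *ᵥ V' = V' := by
      rw [huv, N, hV'X, hB.smul_right, hV'Y, mul_zero, zero_smul, zero_smul, add_zero, add_zero]
    have hRX : ((u : Matrix ι ι F) * A * ((u⁻¹ : GL ι F) : Matrix ι ι F) + A) *ᵥ X = (m * QuadraticMap.polar Q X' Y) • X := by
      rw [add_mulVec, ← mulVec_mulVec, ← mulVec_mulVec, inv X huX, hAX, huX', add_right_comm, two_v h2, zero_add]
    have hRV : ((u : Matrix ι ι F) * A * ((u⁻¹ : GL ι F) : Matrix ι ι F) + A) *ᵥ V = 0 := by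
      rw [add_mulVec, ← mulVec_mulVec, ← mulVec_mulVec, inv V huV, hAV, huV', two_v h2]
    have e1 : c • V = 0 := by
      have := congrArg (fun M : Matrix ι ι F => M *ᵥ V) hc
      simp only [smul_mulVec, one_mulVec] at this
      rw [← this, ← mulVec_mulVec, hRV, mulVec_zero]
    have hc0 : c = 0 := (smul_eq_zero.1 e1).resolve_right hV0
    have e2 : ((m * QuadraticMap.polar Q X' Y) * (m * QuadraticMap.polar Q X' Y)) • X = 0 := by
      have := congrArg (fun M : Matrix ι ι F => M *ᵥ X) hc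
      simp only [smul_mulVec, one_mulVec] at this
      rw [hc0, zero_smul, ← mulVec_mulVec, hRX, mulVec_smul, hRX, smul_smul] at this
      exact this
    have hk : m * QuadraticMap.polar Q X' Y ≠ 0 := mul_ne_zero hm0 hX'Y
    exact (mul_ne_zero hk hk) ((smul_eq_zero.1 e2).resolve_right hX0)

end H95.SpWF
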