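import Mathlib
import Cfsg.Agent.Lib.H95.TV5

set_option autoImplicit false
set_option linter.unusedSectionVars false
set_option linter.unusedVariables false
set_option linter.unusedSimpArgs false

/-!
The coefficient algebra of an overgroup of `1 ⊗ SU(W)` (after the files TV1, TV2, TV4).
-/

namespace H95.TE

open Module H95.UBasic H95.TVG H95.TV

variable {F U W V : Type*} [Field F] [AddCommGroup U] [Module F U] [AddCommGroup W] [Module F W] [AddCommGroup V]
  [Module F V] {σ : F →+* F}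
variable {k : U →ₗ[F] U →ₛₗ[σ] F} {g : W →ₗ[F] W →ₛₗ[σ] F} {h : V →ₗ[F] V →ₛₗ[σ] F} {τ : U →ₗ[F] W →ₗ[F] V}
variable [FiniteDimensional F U] [FiniteDimensional F W] {X : Subgroup (V ≃ₗ[F] V)} {hT : TS k g h τ}

/-- overgroups of the tensor product group -/
structure HX (hT : TS k g h τ) (X : Subgroup (V ≃ₗ[F] V)) : Prop where
  le : X ≤ isom h
  r₂ : ∀ b ∈ SU g, ∃ x ∈ X, Act τ x b

/-- root elements -/
lemma HX.root (hX : HX hT X) {f : W} (hf : g f f = 0) {c : F} (hc : σ c = c) :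
    ∃ x ∈ X, (∀ v, x v = v + (c • E hT (τ.flip f) (τ.flip f)) v) ∧ Act τ x (fun w => w + (c * g w f) • f) := by
  obtain ⟨x, hx, e⟩ := hX.r₂ _ (tr_mem_SU hT.gS hf hc)
  have h1 : Act τ x (fun w => w + (c * g w f) • f) := by
    intro u w
    rw [e, rf_apply (tr_good hf hc)]
  refine ⟨x, hx, ?_, h1⟩
  apply act_eq hT
  intro u w
  rw [h1, LinearMap.smul_apply, E_apply, kap_def, kap_pure]
  simp only [map_add, map_smul, LinearMap.smul_apply, LinearMap.flip_apply, smul_smul]

lemma HX.root_in (hX : HX hT X) {f : W} (hf : g f f = 0) {c : F} (hc : σ c = c) :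
    In X (c • E hT (τ.flip f) (τ.flip f)) := by
  obtain ⟨x, hx, e, -⟩ := hX.root hf hc
  exact ⟨x, hx, e⟩

/-- Heisenberg elements -/
lemma HX.heis (hX : HX hT X) {w z : W} (hw : g w w = 0) (hwz : g z w = 0) : P hT X w (τ.flip z) := by
  obtain ⟨c, hc⟩ := exists_sub_conj hT.gS (hT.gS.self z)
  obtain ⟨x, hx, e⟩ := hX.r₂ _ (Eg_mem hT.gS w z c)
  refine ⟨c • 1, x, hx, ?_⟩
  apply act_eq hT
  intro u y
  rw [e, Eg_apply hT.gS hw (hT.gS.symm_zero hwz) hc, GP_apply, kap_def, kap_pure, kap_pure]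
  simp only [map_add, map_smul, LinearMap.smul_apply, LinearMap.flip_apply, Module.End.one_apply, smul_smul]
  rw [mul_comm (g y w) c]
  abel

/-- (i) -/
lemma P_contract (hX : HX hT X) {w f : W} (hw : g w w = 0) (hf : g f f = 0) (hfw : g f w = 0) {T : U →ₗ[F] V}
    (h1 : ∀ u, kap hT w (T u) = 0) (h3 : P hT X w T) {c : F} (hc : σ c = c) :
    P hT X w (c • (τ.flip f ∘ₗ (kap hT f ∘ₗ T))) := by
  obtain ⟨x, hx, e, hb⟩ := hX.root hf hc
  have h4 := P_conj hX.le hx hb h3
  have h5 : w + (c * g w f) • f = w := by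
    rw [hT.gS.symm_zero hfw, mul_zero, zero_smul, add_zero]
  rw [h5] at h4
  have h6 : x.toLinearMap ∘ₗ T = T + c • (τ.flip f ∘ₗ (kap hT f ∘ₗ T)) := by
    ext u
    exact e (T u)
  have h7 : ∀ u, kap hT w ((c • (τ.flip f ∘ₗ (kap hT f ∘ₗ T))) u) = 0 := by
    intro u
    rw [LinearMap.smul_apply, map_smul, kap_flip hT hfw, smul_zero]
  rw [h6] at h4
  have h8 := P_sub hw (fun u => by rw [LinearMap.add_apply, map_add, h1, h7, add_zero]) h1 h4 h3
  rwa [add_sub_cancel_left] at h8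

/-- (ii) -/
lemma P_move (hX : HX hT X) {w z f : W} (hw : g w w = 0) (hz : g z w = 0) (hf : g f f = 0) (hfw : g f w = 0)
    {n : Module.End F U} (h3 : P hT X w (τ.flip z ∘ₗ n)) : P hT X w (τ.flip (g z f • f) ∘ₗ n) := by
  have h4 := P_contract hX hw hf hfw (kap_flip hT hz n) h3 (map_one σ)
  rw [one_smul] at h4
  have h5 : τ.flip f ∘ₗ (kap hT f ∘ₗ (τ.flip z ∘ₗ n)) = τ.flip (g z f • f) ∘ₗ n := by
    ext u
    simp only [LinearMap.comp_apply, LinearMap.flip_apply, kap_pure, map_smul, LinearMap.smul_apply]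
  rwa [h5] at h4

/-- real multiples -/
lemma P_real (hX : HX hT X) {w f : W} (hw : g w w = 0) (hw0 : w ≠ 0) (hf : g f f = 0)
    (hfw : g f w = 0) (hfs : f ∉ Submodule.span F {w}) {n : Module.End F U} {l : F}
    (h3 : P hT X w (τ.flip (l • f) ∘ₗ n)) {c : F} (hc : σ c = c) : P hT X w (τ.flip ((c * l) • f) ∘ₗ n) := by
  obtain ⟨p, p1, p2, p3⟩ := exists_hyp2 hT.gS hw0 hf hfw hfs
  have p4 : g f p = -1 := by rw [hT.gS.skew p f, p3, map_one]
  have h4 := P_contract hX hw p1 p2 (kap_flip hT (by rw [map_smul, LinearMap.smul_apply, hfw, smul_zero]) n) h3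
    (map_one σ)
  rw [one_smul] at h4
  have h5 : τ.flip p ∘ₗ (kap hT p ∘ₗ (τ.flip (l • f) ∘ₗ n)) = τ.flip ((-l) • p) ∘ₗ n := by
    ext u
    simp only [LinearMap.comp_apply, LinearMap.flip_apply, kap_pure, map_smul, LinearMap.smul_apply, p4, smul_smul]
    module
  rw [h5] at h4
  have h6 := P_contract hX hw hf hfw (kap_flip hT (by rw [map_smul, LinearMap.smul_apply, p2, smul_zero]) n) h4
    (c := -c) (by rw [map_neg, hc])
  convert h6 using 1
  ext u
  simp only [LinearMap.comp_apply, LinearMap.flip_apply, kap_pure, map_smul, LinearMap.smul_apply, p3, smul_smul]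
  module

/-- (iii) all multiples -/
lemma P_all_mult (hX : HX hT X) (hd : 4 ≤ finrank F W) {w f : W} (hw : g w w = 0) (hw0 : w ≠ 0) (hf : g f f = 0)
    (hfw : g f w = 0) (hfs : f ∉ Submodule.span F {w}) {n : Module.End F U} {l : F} (hl : l ≠ 0)
    (h3 : P hT X w (τ.flip (l • f) ∘ₗ n)) (μ : F) : P hT X w (τ.flip (μ • f) ∘ₗ n) := by
  obtain ⟨a, ha, hq⟩ := exists_quot hT.gS
  obtain ⟨b, hb, hbw, hbf⟩ := exists_torus hT.gS hw hw0 hf hfw hfs ha
  obtain ⟨x, hx, e⟩ := hX.r₂ b hb
  -- the twisted multiple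
  have h4 : P hT X w (τ.flip ((σ a * a⁻¹ * l) • f) ∘ₗ n) := by
    have h5 := P_conj hX.le hx e h3
    rw [hbw] at h5
    have h6 := P_scale ha h5
    convert h6 using 1
    ext u
    simp only [LinearMap.comp_apply, LinearMap.flip_apply, LinearMap.smul_apply, LinearEquiv.coe_coe]
    rw [e, map_smul b, hbf, map_smul, map_smul, map_smul, smul_smul, smul_smul]
    congr 1
    ring
  obtain ⟨lam, hlam⟩ : ∃ lam, lam = σ a * a⁻¹ := ⟨_, rfl⟩
  rw [← hlam] at hq h4
  obtain ⟨ν, hν⟩ : ∃ ν, ν = μ * l⁻¹ := ⟨_, rfl⟩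
  have hne : lam - σ lam ≠ 0 := fun h => hq (sub_eq_zero.1 h).symm
  obtain ⟨r2, hr2⟩ : ∃ r2, r2 = (ν - σ ν) * (lam - σ lam)⁻¹ := ⟨_, rfl⟩
  have hr2s : σ r2 = r2 := by
    rw [hr2, map_mul, map_inv₀, map_sub, map_sub, hT.gS.inv, hT.gS.inv]
    have : (σ lam - lam)⁻¹ = -(lam - σ lam)⁻¹ := by rw [← neg_sub, inv_neg]
    rw [this]; ring
  have hr1s : σ (ν - r2 * lam) = ν - r2 * lam := by
    rw [map_sub, map_mul, hr2s]
    have : r2 * (lam - σ lam) = ν - σ ν := by rw [hr2, mul_assoc, inv_mul_cancel₀ hne, mul_one]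
    linear_combination this
  have h5 := P_real hX hw hw0 hf hfw hfs h3 hr1s
  have h6 := P_real hX hw hw0 hf hfw hfs h4 hr2s
  have h7 := P_add hw (kap_flip hT (by rw [map_smul, LinearMap.smul_apply, hfw, smul_zero]) n)
    (kap_flip hT (by rw [map_smul, LinearMap.smul_apply, hfw, smul_zero]) n) h5 h6
  convert h7 using 1
  ext u
  simp only [LinearMap.comp_apply, LinearMap.flip_apply, LinearMap.add_apply, map_smul, LinearMap.smul_apply]
  rw [← add_smul]
  congr 1
  have : μ = ν * l := by rw [hν, mul_assoc, inv_mul_cancel₀ hl, mul_one]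
  rw [this]; ring

/-- (iv), (v), (vi): all second vectors -/
lemma P_all (hX : HX hT X) (hd : 4 ≤ finrank F W) {w f : W} (hw : g w w = 0) (hw0 : w ≠ 0) (hf : g f f = 0)
    (hfw : g f w = 0) (hfs : f ∉ Submodule.span F {w}) {n : Module.End F U}
    (h3 : P hT X w (τ.flip f ∘ₗ n)) {z : W} (hz : g z w = 0) : P hT X w (τ.flip z ∘ₗ n) := by
  have hf1 := P_all_mult hX hd hw hw0 hf hfw hfs one_ne_zero (by rwa [one_smul])
  -- all isotropic vectors
  have step : ∀ f' : W, g f' f' = 0 → g f' w = 0 → f' ∉ Submodule.span F {w} → ∀ μ : F, P hT X w (τ.flip (μ • f') ∘ₗ n) := by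
    have st : ∀ f f' : W, g f w = 0 → (∀ μ : F, P hT X w (τ.flip (μ • f) ∘ₗ n)) → g f' f' = 0 → g f' w = 0 →
        f' ∉ Submodule.span F {w} → g f f' ≠ 0 → ∀ μ : F, P hT X w (τ.flip (μ • f') ∘ₗ n) := by
      intro f f' hfw h4 hf' hfw' hfs' hff μ
      have h5 := P_move hX hw (by rw [map_smul, LinearMap.smul_apply, hfw, smul_zero]) hf' hfw' (h4 1)
      refine P_all_mult hX hd hw hw0 hf' hfw' hfs' (l := g ((1 : F) • f) f') ?_ h5 μ
      rwa [one_smul]
    intro f' hf' hfw' hfs'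
    obtain ⟨p, p1, p2, p3, p4⟩ := exists_connect hT.gS hw0 hf hfw hfs hf' hfw' hfs'
    have hps : p ∉ Submodule.span F {w} := by
      intro h
      obtain ⟨c, rfl⟩ := Submodule.mem_span_singleton.1 h
      rw [map_smul, LinearMap.smul_apply, hT.gS.symm_zero hfw, smul_zero] at p3
      exact p3 rfl
    have h5 := st f p hfw hf1 p1 p2 hps (fun h => p3 (hT.gS.symm_zero h))
    exact st p f' p2 h5 hf' hfw' hfs' p4
  let S : Submodule F W :=
    { carrier := {z | g z w = 0 ∧ ∀ μ : F, P hT X w (τ.flip (μ • z) ∘ₗ n)}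
      add_mem' := by
        rintro a b ⟨ha, ha'⟩ ⟨hb, hb'⟩
        refine ⟨by rw [map_add, LinearMap.add_apply, ha, hb, add_zero], fun μ => ?_⟩
        have h5 : τ.flip (μ • (a + b)) ∘ₗ n = τ.flip (μ • a) ∘ₗ n + τ.flip (μ • b) ∘ₗ n := by
          ext u
          simp
        rw [h5]
        exact P_add hw (kap_flip hT (by rw [map_smul, LinearMap.smul_apply, ha, smul_zero]) n)
          (kap_flip hT (by rw [map_smul, LinearMap.smul_apply, hb, smul_zero]) n) (ha' μ) (hb' μ)
      zero_mem' := by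
        refine ⟨by simp, fun μ => ?_⟩
        have h5 : τ.flip (μ • (0 : W)) ∘ₗ n = 0 := by
          ext u
          simp
        rw [h5]
        exact P_zero
      smul_mem' := by
        rintro c a ⟨ha, ha'⟩
        refine ⟨by rw [map_smul, LinearMap.smul_apply, ha, smul_zero], fun μ => ?_⟩
        rw [smul_smul]
        exact ha' _ }
  have h6 : z ∈ S := span_iso_perp hT.gS hd hw hw0 S (fun f' h1 h2 h3 => ⟨h2, step f' h1 h2 h3⟩) hz
  have h7 := h6.2 1
  rwa [one_smul] at h7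

/-- (vii) -/
lemma P_change (hX : HX hT X) (hd : 4 ≤ finrank F W) {w w' : W} (hw : g w w = 0) (hw0 : w ≠ 0) (hw' : g w' w' = 0)
    (hw0' : w' ≠ 0) {n : Module.End F U} (h3 : ∀ z, g z w = 0 → P hT X w (τ.flip z ∘ₗ n)) {z : W} (hz : g z w' = 0) :
    P hT X w' (τ.flip z ∘ₗ n) := by
  obtain ⟨b, hb, hbw⟩ := iso_trans hT.gS hd hw hw0 hw' hw0'
  obtain ⟨x, hx, e⟩ := hX.r₂ b hb
  have h4 := h3 (b⁻¹ z) (by
    have : g (b (b⁻¹ z)) (b w) = g (b⁻¹ z) w := (SU_le _ hb) _ _
    rw [← this, hbw]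
    have h5 : b (b⁻¹ z) = z := b.apply_symm_apply z
    rw [h5, hz])
  have h5 := P_conj hX.le hx e h4
  rw [hbw] at h5
  have h6 : x.toLinearMap ∘ₗ (τ.flip (b⁻¹ z) ∘ₗ n) = τ.flip z ∘ₗ n := by
    ext u
    have h5 : b (b⁻¹ z) = z := b.apply_symm_apply z
    simp only [LinearMap.comp_apply, LinearMap.flip_apply, LinearEquiv.coe_coe]
    rw [e, h5]
  rwa [h6] at h5

/-- criterion -/
theorem mem_NN (hX : HX hT X) (hd : 4 ≤ finrank F W) {w f : W} (hw : g w w = 0) (hw0 : w ≠ 0) (hf : g f f = 0)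
    (hfw : g f w = 0) (hfs : f ∉ Submodule.span F {w}) {n : Module.End F U}
    (h3 : P hT X w (τ.flip f ∘ₗ n)) : n ∈ NN hT X := by
  intro w' hw' z hz
  by_cases hw0' : w' = 0
  · subst hw0'
    have h1 : ∀ w1, g w1 w1 = 0 → w1 ≠ 0 → ∀ z, g z w1 = 0 → P hT X w1 (τ.flip z ∘ₗ n) :=
      fun w1 h1 h2 z hz => P_change hX hd hw hw0 h1 h2 (fun z hz => P_all hX hd hw hw0 hf hfw hfs h3 hz) hz
    refine ⟨0, ?_⟩
    have : GP hT (0 : W) (τ.flip z ∘ₗ n) 0 = 0 := by
      ext v
      rw [GP_apply]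
      have h4 : kap hT (0 : W) v = 0 := by
        have := kap_smul hT 0 (0 : W)
        rw [zero_smul, map_zero, zero_smul] at this
        rw [this]; rfl
      rw [h4]
      simp
    rw [this]
    exact In.zero
  · exact P_change hX hd hw hw0 hw' hw0' (fun z hz => P_all hX hd hw hw0 hf hfw hfs h3 hz) hz

lemma one_mem_NN (hX : HX hT X) : (1 : Module.End F U) ∈ NN hT X := by
  intro w hw z hz
  exact hX.heis hw hz

/-- central elements -/
lemma central (hX : HX hT X) {n : Module.End F U} (hn : n ∈ NN hT X) {w z z' : W} (hw : g w w = 0)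
    (hz : g z w = 0) (hz' : g z' w = 0) (h1 : g z' z = 1) : In X (E hT (τ.flip w ∘ₗ (n + J hT n)) (τ.flip w)) := by
  have hwz : g w z = 0 := hT.gS.symm_zero hz
  have hwz' : g w z' = 0 := hT.gS.symm_zero hz'
  have hzz' : g z z' = -1 := by rw [hT.gS.skew z' z, h1, map_one]
  obtain ⟨m, hm⟩ := hn w hw z hz
  obtain ⟨m', hm'⟩ := one_mem_NN hX w hw z' hz'
  have h2 := hm.comm hm' (by
    intro v
    simp only [GP_flip_apply, map_add, kap_pure, hw, hwz, hwz', hz, hz', zero_smul, add_zero, zero_add,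
      map_zero, LinearMap.zero_apply, map_smul, LinearMap.smul_apply, smul_zero, sub_self]) (by
    intro v
    simp only [GP_flip_apply, map_add, kap_pure, hw, hwz, hwz', hz, hz', zero_smul, add_zero, zero_add,
      map_zero, LinearMap.zero_apply, map_smul, LinearMap.smul_apply, smul_zero, sub_self])
  convert h2 using 1
  ext v
  simp only [LinearMap.sub_apply, Module.End.mul_apply, GP_flip_apply, map_add, kap_pure, hw, hwz, hwz', hz, hz', h1, hzz',
    zero_smul, add_zero, zero_add, map_zero, LinearMap.zero_apply, map_smul, LinearMap.smul_apply, smul_zero, J_one,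
    Module.End.one_apply, one_smul, neg_smul, sub_neg_eq_add, E_flip, LinearMap.add_apply, map_neg, LinearMap.neg_apply]
  abel

/-- central elements come from the coefficient algebra -/
lemma mem_of_central (hX : HX hT X) (hd : 4 ≤ finrank F W) {n : Module.End F U} (hn : J hT n = n) {w : W} (hw : g w w = 0)
    (hw0 : w ≠ 0) (h1 : In X (E hT (τ.flip w ∘ₗ n) (τ.flip w))) : n ∈ NN hT X := by
  have key : ∀ f, g f f = 0 → f ≠ 0 → In X (E hT (τ.flip f ∘ₗ n) (τ.flip f)) := by
    intro f hf hf0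
    obtain ⟨b, hb, hbw⟩ := iso_trans hT.gS hd hw hw0 hf hf0
    obtain ⟨x, hx, e⟩ := hX.r₂ b hb
    refine h1.conj hx fun v => ?_
    rw [E_conj hT (hX.le hx)]
    have h2 : x.toLinearMap ∘ₗ τ.flip w = τ.flip f := by
      ext u
      rw [← hbw]
      exact e u w
    rw [← LinearMap.comp_assoc, h2]
  obtain ⟨f, hf, hfw, hfs⟩ := exists_iso_perp hT.gS hd hw hw0
  have hwf : g w f = 0 := hT.gS.symm_zero hfw
  have hf0 : f ≠ 0 := by rintro rfl; exact hfs (Submodule.zero_mem _)
  have hwf0 : w + f ≠ 0 := by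
    intro h
    apply hfs
    rw [eq_neg_of_add_eq_zero_right h]
    exact Submodule.neg_mem _ (Submodule.mem_span_singleton_self _)
  have h2 := key f hf hf0
  have h3 := key (w + f) (by simp [hw, hf, hwf, hfw]) hwf0
  have h4 := (h3.mul (h1.neg (by
    intro v
    simp only [E_flip]
    simp only [kap_pure, hw, zero_smul, map_zero, LinearMap.zero_apply])) (by
    intro v
    simp only [LinearMap.neg_apply, E_flip]
    simp only [map_neg, kap_pure, map_add,
      hw, hwf, add_zero, zero_smul, map_zero, LinearMap.zero_apply, neg_zero])).mul (h2.neg (by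
    intro v
    simp only [E_flip]
    simp only [kap_pure, hf, zero_smul, map_zero, LinearMap.zero_apply])) (by
    intro v
    simp only [LinearMap.neg_apply, LinearMap.add_apply, E_flip]
    simp only [
      map_neg, kap_pure, map_add, hf, hfw, hwf, add_zero, zero_smul, map_zero, LinearMap.zero_apply, neg_zero])
  apply mem_NN hX hd hw hw0 hf hfw hfs
  refine ⟨0, ?_⟩
  convert h4 using 1
  ext v
  simp only [GP_flip_apply, E_flip, LinearMap.neg_apply, LinearMap.add_apply]
  simp only [kap_add, map_add, hn, LinearMap.zero_apply, LinearMap.add_apply, map_zero, add_zero]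
  abel

lemma J_mem_NN (hX : HX hT X) (hd : 4 ≤ finrank F W) {n : Module.End F U} (hn : n ∈ NN hT X) : J hT n ∈ NN hT X := by
  obtain ⟨w, f, p, hw, hw0, hf, hfw, hfs, p1, p2, p3⟩ := exists_frame hT.gS hd
  have h1 := central hX hn hw hfw p2 p3
  have h2 : n + J hT n ∈ NN hT X := mem_of_central hX hd (by rw [J_add, J_J, add_comm]) hw hw0 h1
  have h3 := add_mem_NN h2 (smul_mem_NN hn (-1))
  have h4 : n + J hT n + (-1 : F) • n = J hT n := by rw [neg_one_smul]; abel
  rwa [h4] at h3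

/-- central elements from symmetric coefficients -/
lemma sym_central (hX : HX hT X) {s : Module.End F U} (hs : s ∈ NN hT X) (hsj : J hT s = s) {w z z' : W}
    (hw : g w w = 0) (hz : g z w = 0) (hz' : g z' w = 0) (h1 : g z' z = 1) :
    In X (E hT (τ.flip w ∘ₗ s) (τ.flip w)) := by
  obtain ⟨t, ht⟩ := exists_tr hT
  have h2 := central hX (smul_mem_NN hs t) hw hz hz' h1
  have h3 : t • s + J hT (t • s) = s := by rw [J_smul, hsj, ← add_smul, ht, one_smul]
  rwa [h3] at h2

/-- multiplication by symmetric elements -/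
lemma sym_mul_mem (hX : HX hT X) (hd : 4 ≤ finrank F W) {s n : Module.End F U} (hs : s ∈ NN hT X)
    (hsj : J hT s = s) (hn : n ∈ NN hT X) : s * n ∈ NN hT X := by
  obtain ⟨w, f, p, hw, hw0, hf, hfw, hfs, p1, p2, p3⟩ := exists_frame hT.gS hd
  have hwf : g w f = 0 := hT.gS.symm_zero hfw
  have hwp : g w p = 0 := hT.gS.symm_zero p2
  have p4 : g f p = -1 := by rw [hT.gS.skew p f, p3, map_one]
  have hp0 : p ≠ 0 := by rintro rfl; simp at p3
  -- a hyperbolic pair orthogonal to `p`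
  have hps : w ∉ Submodule.span F {p} := by
    intro h
    obtain ⟨c, hc⟩ := Submodule.mem_span_singleton.1 h
    have h1 : g w f = c := by rw [← hc, map_smul, LinearMap.smul_apply, p3, smul_eq_mul, mul_one]
    rw [hwf] at h1
    rw [← h1, zero_smul] at hc
    exact hw0 hc.symm
  obtain ⟨r, r1, r2, r3⟩ := exists_hyp2 hT.gS hp0 hw hwp hps
  obtain ⟨x, hx, e⟩ := sym_central hX hs hsj p1 hwp r2 r3
  have e' : ∀ v, x v = v + τ (s (kap hT p v)) p := fun v => by rw [e]; rfl
  have h1 : ∀ u, x (τ u w) = τ u w := by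
    intro u
    rw [e', kap_pure, hwp, zero_smul, map_zero, map_zero, LinearMap.zero_apply, add_zero]
  have h2 := hn w hw f hfw
  have h3 := P_conj' hX.le hx h1 h2
  have h4 : x.toLinearMap ∘ₗ (τ.flip f ∘ₗ n) = τ.flip f ∘ₗ n - τ.flip p ∘ₗ (s * n) := by
    ext u
    simp only [LinearMap.comp_apply, LinearMap.flip_apply, LinearMap.sub_apply, LinearEquiv.coe_coe,
      Module.End.mul_apply]
    rw [e', kap_pure, p4, neg_smul, one_smul, map_neg, map_neg, LinearMap.neg_apply, sub_eq_add_neg]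
  rw [h4] at h3
  have h5 := P_sub hw (kap_flip hT hfw n) (fun u => by
    rw [LinearMap.sub_apply, map_sub, kap_flip hT hfw, kap_flip hT p2, sub_zero]) h2 h3
  rw [sub_sub_cancel] at h5
  have hpw : p ∉ Submodule.span F {w} := by
    intro h
    obtain ⟨c, hc⟩ := Submodule.mem_span_singleton.1 h
    rw [← hc, map_smul, LinearMap.smul_apply, hwf, smul_zero] at p3
    exact zero_ne_one p3
  exact mem_NN hX hd hw hw0 p1 p2 hpw h5

lemma mul_mem_NN (hX : HX hT X) (hd : 4 ≤ finrank F W) {n n' : Module.End F U} (hn : n ∈ NN hT X) (hn' : n' ∈ NN hT X) :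
    n * n' ∈ NN hT X := by
  obtain ⟨l, hl⟩ := hT.gS.ne
  have h1 : l - σ l ≠ 0 := fun h => hl (sub_eq_zero.1 h).symm
  have hJ := J_mem_NN hX hd hn
  obtain ⟨s2, hs2⟩ : ∃ s2, s2 = (l - σ l)⁻¹ • (n + (-1 : F) • J hT n) := ⟨_, rfl⟩
  obtain ⟨s1, hs1⟩ : ∃ s1, s1 = n + (-l) • s2 := ⟨_, rfl⟩
  have m2 : s2 ∈ NN hT X := by rw [hs2]; exact smul_mem_NN (add_mem_NN hn (smul_mem_NN hJ _)) _
  have m1 : s1 ∈ NN hT X := by rw [hs1]; exact add_mem_NN hn (smul_mem_NN m2 _)
  have e0 : (σ l - l)⁻¹ = -(l - σ l)⁻¹ := by rw [← neg_sub, inv_neg]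
  have j2 : J hT s2 = s2 := by
    rw [hs2, J_smul, J_add, J_smul, J_J, map_inv₀, map_sub, hT.gS.inv, e0, map_neg, map_one]
    module
  have j1 : J hT s1 = s1 := by
    rw [hs1, J_add, J_smul, j2, map_neg]
    have h2 : (l - σ l) • s2 = n + (-1 : F) • J hT n := by rw [hs2, smul_smul, mul_inv_cancel₀ h1, one_smul]
    have h3 : J hT n = n - (l - σ l) • s2 := by rw [h2]; module
    rw [h3]; module
  have h4 := add_mem_NN (sym_mul_mem hX hd m1 j1 hn') (smul_mem_NN (sym_mul_mem hX hd m2 j2 hn') l)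
  have h5 : s1 * n' + l • (s2 * n') = n * n' := by
    rw [hs1, add_mul, smul_mul_assoc]
    module
  rwa [h5] at h4

/-- the coefficient algebra -/
def Nalg (hX : HX hT X) (hd : 4 ≤ finrank F W) : Subalgebra F (Module.End F U) where
  carrier := NN hT X
  mul_mem' := mul_mem_NN hX hd
  add_mem' := add_mem_NN
  algebraMap_mem' c := by
    rw [Algebra.algebraMap_eq_smul_one]
    exact smul_mem_NN (one_mem_NN hX) c

lemma mem_Nalg (hX : HX hT X) (hd : 4 ≤ finrank F W) {n : Module.End F U} : n ∈ Nalg hX hd ↔ n ∈ NN hT X := Iff.rfl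

lemma central' (hX : HX hT X) (hd : 4 ≤ finrank F W) {n : Module.End F U} (hn : n ∈ NN hT X) {w : W} (hw : g w w = 0)
    (hw0 : w ≠ 0) : In X (E hT (τ.flip w ∘ₗ (n + J hT n)) (τ.flip w)) := by
  obtain ⟨f, hf, hfw, hfs⟩ := exists_iso_perp hT.gS hd hw hw0
  obtain ⟨p, p1, p2, p3⟩ := exists_hyp2 hT.gS hw0 hf hfw hfs
  exact central hX hn hw hfw p2 p3

/-- pure transvections -/
lemma pure_mem (hX : HX hT X) (hd : 4 ≤ finrank F W) (hall : ∀ x y, rho k x y ∈ NN hT X) {x : U} {w : W} (hw : g w w = 0)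
    {c : F} (hc : σ c = c) : rf h (τ x w) c ∈ X := by
  by_cases hw0 : w = 0
  · subst hw0
    have : rf h (τ x 0) c = 1 := by
      ext v
      rw [map_zero, rf_apply (by simp [hc])]
      simp
    rw [this]; exact X.one_mem
  obtain ⟨η, hη⟩ := exists_half hT
  obtain ⟨y, hy, e⟩ := central' hX hd (smul_mem_NN (hall x x) (η * c)) hw hw0
  have hiso : h (τ x w) (τ x w) = 0 := by rw [hT.ht, hw, mul_zero]
  have : rf h (τ x w) c = y := by
    ext v
    rw [rf_apply (tr_good hiso hc), e, E_flip, LinearMap.add_apply, J_smul, J_rho, LinearMap.smul_apply,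
      LinearMap.smul_apply, rho_apply, ← add_smul, smul_smul, map_smul, LinearMap.smul_apply, kap_spec, map_mul, hc]
    congr 2
    linear_combination -(c * h v (τ x w)) * hη
  rw [this]; exact hy

/-- all transvections -/
theorem all_tr (hX : HX hT X) (hd : 4 ≤ finrank F W) (hall : ∀ x y, rho k x y ∈ NN hT X) {v : V} (hv : h v v = 0)
    {c : F} (hc : σ c = c) : rf h v c ∈ X := by
  by_cases hv0 : v = 0
  · subst hv0
    have : rf h (0 : V) c = 1 := by
      ext v
      rw [rf_apply (by simp [hc])]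
      simp
    rw [this]; exact X.one_mem
  obtain ⟨η, hη⟩ := exists_half hT
  -- an isotropic w with non-zero contraction
  obtain ⟨w, hw, hx0⟩ : ∃ w, g w w = 0 ∧ kap hT w v ≠ 0 := by
    by_contra hcon
    push Not at hcon
    apply hv0
    let S : Submodule F W :=
      { carrier := {w | kap hT w v = 0}
        add_mem' := by
          intro a b ha hb
          change kap hT (a + b) v = 0
          rw [kap_add, LinearMap.add_apply, ha, hb, add_zero]
        zero_mem' := by
          change kap hT 0 v = 0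
          have := kap_smul hT 0 (0 : W)
          rw [zero_smul, map_zero, zero_smul] at this
          rw [this]; rfl
        smul_mem' := by
          intro c a ha
          change kap hT (c • a) v = 0
          rw [kap_smul, LinearMap.smul_apply, ha, smul_zero] }
    have h1 : ∀ w, kap hT w v = 0 := fun w => iso_span_top hT.gS hd S hcon w
    apply hT.hS.nd
    have h2 : ∀ y, h y v = 0 := by
      have h3 := hT.span (LinearMap.ker (h.flip v)) (fun u w => by
        rw [LinearMap.mem_ker, LinearMap.flip_apply]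
        apply hT.hS.symm_zero
        rw [← kap_spec hT, h1, map_zero, LinearMap.zero_apply])
      intro y
      have : y ∈ LinearMap.ker (h.flip v) := by rw [h3]; trivial
      exact this
    exact fun y => hT.hS.symm_zero (h2 y)
  have hw0 : w ≠ 0 := by
    rintro rfl
    have := kap_smul hT 0 (0 : W)
    rw [zero_smul, map_zero, zero_smul] at this
    rw [this] at hx0
    exact hx0 rfl
  obtain ⟨f, hf, hfw⟩ := exists_hyp hT.gS hw hw0
  obtain ⟨x, hx⟩ : ∃ x, x = kap hT w v := ⟨_, rfl⟩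
  rw [← hx] at hx0
  obtain ⟨x', hx'⟩ : ∃ x', k x x' = 1 := by
    obtain ⟨ζ, H⟩ := hT.HD
    obtain ⟨u, hu⟩ := dual1 H.sk hx0
    rw [H.app] at hu
    have h1 : k x u ≠ 0 := by
      intro h
      rw [H.symm_zero h, mul_zero] at hu
      exact zero_ne_one hu
    refine ⟨(σ (k x u))⁻¹ • u, ?_⟩
    rw [map_smulₛₗ, map_inv₀, hT.gS.inv, smul_eq_mul, inv_mul_cancel₀ h1]
  -- the movable differences
  let Q : V → Prop := fun Y => ∃ φ ∈ X, (∀ Y', kap hT w Y' = 0 → ∃ y, φ Y' = Y' + τ y w) ∧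
    ∃ y, φ (τ x f) = τ x f + Y + τ y w
  let S : Submodule F V :=
    { carrier := {Y | kap hT w Y = 0 ∧ ∀ c : F, Q (c • Y)}
      add_mem' := by
        rintro a b ⟨ha, ha'⟩ ⟨hb, hb'⟩
        refine ⟨by rw [map_add, ha, hb, add_zero], fun c => ?_⟩
        obtain ⟨φ, hφ, h1, y1, h2⟩ := ha' c
        obtain ⟨ψ, hψ, h3, y2, h4⟩ := hb' c
        refine ⟨φ * ψ, X.mul_mem hφ hψ, ?_, ?_⟩
        · intro Y hY
          obtain ⟨y, hy⟩ := h3 Y hY
          obtain ⟨y', hy'⟩ := h1 (Y + τ y w) (by rw [map_add, hY, kap_pure, hw, zero_smul, add_zero])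
          refine ⟨y + y', ?_⟩
          rw [LinearEquiv.mul_apply, hy, hy', map_add, LinearMap.add_apply]
          abel
        · obtain ⟨y', hy'⟩ := h1 (c • b + τ y2 w) (by rw [map_add, map_smul, hb, kap_pure, hw, zero_smul, smul_zero, add_zero])
          refine ⟨y1 + y2 + y', ?_⟩
          rw [LinearEquiv.mul_apply, h4, add_assoc, map_add, h2, hy', map_add, map_add, LinearMap.add_apply,
            LinearMap.add_apply, smul_add]
          abel
      zero_mem' := by
        refine ⟨map_zero _, fun c => ⟨1, X.one_mem, fun Y _ => ⟨0, by simp⟩, 0, by simp⟩⟩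
      smul_mem' := by
        rintro a b ⟨hb, hb'⟩
        refine ⟨by rw [map_smul, hb, smul_zero], fun c => ?_⟩
        rw [smul_smul]
        exact hb' _ }
  have hgen : ∀ (y : U) (z : W), g z w = 0 → τ y z ∈ S := by
    intro y z hz
    refine ⟨by rw [kap_pure, hz, zero_smul], fun c => ?_⟩
    obtain ⟨m, φ, hφ, e⟩ := hall (c • y) x' w hw z hz
    refine ⟨φ, hφ, ?_, ?_⟩
    · intro Y hY
      refine ⟨J hT (rho k (c • y) x') (kap hT z Y), ?_⟩
      rw [e, GP_flip_apply, hY]
      simp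
    · refine ⟨J hT (rho k (c • y) x') (kap hT z (τ x f)) + m x, ?_⟩
      rw [e, GP_flip_apply, kap_pure hT w, hfw, one_smul, rho_apply, hx', one_smul, map_add, LinearMap.add_apply, map_smul,
        LinearMap.smul_apply]
      abel
  have hdec : ∀ v', v' - τ (kap hT w v') f ∈ S := by
    intro v'
    have h1 := hT.span (S.comap (LinearMap.id - (τ.flip f ∘ₗ kap hT w) : V →ₗ[F] V)) (by
      intro u y
      rw [Submodule.mem_comap]
      have : (LinearMap.id - (τ.flip f ∘ₗ kap hT w) : V →ₗ[F] V) (τ u y) = τ u (y - g y w • f) := by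
        rw [LinearMap.sub_apply, LinearMap.comp_apply, LinearMap.flip_apply, kap_pure]
        simp
      rw [this]
      apply hgen
      rw [map_sub, LinearMap.sub_apply, map_smul, LinearMap.smul_apply, hfw, smul_eq_mul, mul_one, sub_self])
    have h2 : v' ∈ S.comap (LinearMap.id - (τ.flip f ∘ₗ kap hT w) : V →ₗ[F] V) := by rw [h1]; trivial
    exact h2
  obtain ⟨φ, hφ, -, y, h1⟩ := (hdec v).2 1
  rw [one_smul, ← hx, add_sub_cancel] at h1
  -- correction
  have hiso : h (v + τ y w) (v + τ y w) = 0 := by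
    rw [← h1]
    have : h (φ (τ x f)) (φ (τ x f)) = h (τ x f) (τ x f) := hX.le hφ _ _
    rw [this, hT.ht, hf, mul_zero]
  have hε : σ (k x y) = k x y := by
    have h2 : h v (τ y w) = k x y := by rw [← kap_spec hT, hx]
    have h3 : h (τ y w) v = - σ (k x y) := by rw [hT.hS.skew v, h2]
    have h4 : h (τ y w) (τ y w) = 0 := by rw [hT.ht, hw, mul_zero]
    rw [map_add, map_add, LinearMap.add_apply, LinearMap.add_apply, hv, h2, h3, h4] at hiso
    linear_combination -hiso
  obtain ⟨m, hm⟩ : ∃ m, m = rho k (-y) x' - (η * k x (-y)) • rho k x' x' := ⟨_, rfl⟩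
  have hmN : m ∈ NN hT X := by
    rw [hm, sub_eq_add_neg, ← neg_smul]
    exact add_mem_NN (hall _ _) (smul_mem_NN (hall _ _) _)
  obtain ⟨ψ, hψ, e⟩ := central' hX hd hmN hw hw0
  have hmx : (m + J hT m) x = -y := by
    rw [hm, J_sub, J_smul, J_rho, J_rho]
    simp only [LinearMap.add_apply, LinearMap.sub_apply, LinearMap.smul_apply, rho_apply, hx', one_smul, map_neg, map_mul, hε,
      smul_neg, neg_smul]
    have h2 : (η * k x y) • x' + (σ η * k x y) • x' = k x y • x' := by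
      rw [← add_smul, ← add_mul, hη, one_mul]
    have h3 : -y - (-((η * k x y) • x')) + (-(k x y • x') - (-((σ η * k x y) • x'))) =
      -y + ((η * k x y) • x' + (σ η * k x y) • x') - k x y • x' := by abel
    simp only [mul_neg, neg_smul]
    rw [h3, h2]
    abel
  have h2 : (ψ * φ) (τ x f) = v := by
    rw [LinearEquiv.mul_apply, h1, e, E_flip, map_add, kap_pure, hw, zero_smul, add_zero, ← hx, hmx, map_neg,
      LinearMap.neg_apply]
    abel
  have h3 := X.mul_mem (X.mul_mem (X.mul_mem hψ hφ) (pure_mem hX hd hall (x := x) hf hc)) (X.inv_mem (X.mul_mem hψ hφ))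
  rwa [rf_conj _ _ _ (hX.le (X.mul_mem hψ hφ)), h2] at h3

end H95.TE
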