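import Mathlib
import Cfsg.Agent.Lib.H95.UBasic

set_option autoImplicit false
set_option linter.unusedSectionVars false
set_option linter.unusedVariables false

/-!
Geometry of isotropic vectors of skew-hermitian forms in dimension at least five.
-/

namespace H95.TUG

open Module H95.UBasic

variable {F W : Type*} [Field F] [AddCommGroup W] [Module F W] {σ : F →+* F}
variable {g : W →ₗ[F] W →ₛₗ[σ] F}

lemma top_nd (H : IsSkew g) : ∀ v ∈ (⊤ : Submodule F W), (∀ w ∈ (⊤ : Submodule F W), g v w = 0) → v = 0 :=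
  fun v _ h => H.nd v fun w => h w trivial

lemma dual1 (H : IsSkew g) {x : W} (hx : x ≠ 0) : ∃ u, g u x = 1 := by
  obtain ⟨u, hu⟩ : ∃ u, g u x ≠ 0 := by
    by_contra hcon
    push Not at hcon
    exact hx (H.nd x fun w => H.symm_zero (hcon w))
  exact ⟨(g u x)⁻¹ • u, by rw [map_smul, LinearMap.smul_apply, smul_eq_mul, inv_mul_cancel₀ hu]⟩

lemma iso_fix (H : IsSkew g) {u x : W} (hx : g x x = 0) (hu : g u x ≠ 0) : ∃ b : F, g (u + b • x) (u + b • x) = 0 := by
  obtain ⟨t, ht⟩ := exists_sub_conj H (H.self u)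
  have hc : σ (g u x) ≠ 0 := fun h => hu (H.inj h)
  refine ⟨t * (σ (g u x))⁻¹, ?_⟩
  have h1 : g x u = - σ (g u x) := H.skew u x
  simp only [map_add, LinearMap.add_apply, map_smul, LinearMap.smul_apply, map_smulₛₗ, smul_eq_mul, hx,
    mul_zero, add_zero, h1, map_mul, map_inv₀, H.inv]
  rw [← ht]
  field_simp
  ring

lemma exists_hyp (H : IsSkew g) {w : W} (hw : g w w = 0) (hw0 : w ≠ 0) : ∃ f, g f f = 0 ∧ g f w = 1 := by
  obtain ⟨u, hu⟩ := dual1 H hw0
  obtain ⟨b, hb⟩ := iso_fix H hw (by rw [hu]; exact one_ne_zero : g u w ≠ 0)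
  refine ⟨_, hb, ?_⟩
  rw [map_add, LinearMap.add_apply, hu, map_smul, LinearMap.smul_apply, hw, smul_zero, add_zero]

variable [FiniteDimensional F W]

lemma pair_li {w f : W} (hw0 : w ≠ 0) (hf : f ∉ Submodule.span F {w}) : LinearIndependent F ![w, f] := by
  apply pair_indep hw0
  intro a ha
  exact hf (ha ▸ Submodule.smul_mem _ _ (Submodule.mem_span_singleton_self _))

lemma exists_hyp2 (H : IsSkew g) {w f : W} (hw0 : w ≠ 0) (hf : g f f = 0) (hfw : g f w = 0)
    (hfs : f ∉ Submodule.span F {w}) : ∃ p, g p p = 0 ∧ g p w = 0 ∧ g p f = 1 := by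
  obtain ⟨u, -, hu⟩ := exists_dual H (top_nd H) (x := ![w, f]) (fun i => trivial) (pair_li hw0 hfs) ![0, 1]
  have h0 := hu 0
  have h1 := hu 1
  simp only [Matrix.cons_val_zero, Matrix.cons_val_one] at h0 h1
  obtain ⟨b, hb⟩ := iso_fix H hf (by rw [h1]; exact one_ne_zero : g u f ≠ 0)
  refine ⟨_, hb, ?_, ?_⟩
  · rw [map_add, LinearMap.add_apply, h0, map_smul, LinearMap.smul_apply, hfw, smul_zero, add_zero]
  · rw [map_add, LinearMap.add_apply, h1, map_smul, LinearMap.smul_apply, hf, smul_zero, add_zero]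

lemma exists_connect (H : IsSkew g) {w f f' : W} (hw0 : w ≠ 0) (hf : g f f = 0) (hfw : g f w = 0)
    (hfs : f ∉ Submodule.span F {w}) (hf' : g f' f' = 0) (hfw' : g f' w = 0) (hfs' : f' ∉ Submodule.span F {w}) :
    ∃ p, g p p = 0 ∧ g p w = 0 ∧ g p f ≠ 0 ∧ g p f' ≠ 0 := by
  obtain ⟨p, p1, p2, p3⟩ := exists_hyp2 H hw0 hf hfw hfs
  obtain ⟨r, r1, r2, r3⟩ := exists_hyp2 H hw0 hf' hfw' hfs'
  by_cases hp : g p f' = 0
  · by_cases hr : g r f = 0
    · have key : ∃ c : F, c ≠ 0 ∧ g (p + c • r) (p + c • r) = 0 := by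
        have h1 : g r p = - σ (g p r) := H.skew p r
        by_cases hA : g p r = 0
        · refine ⟨1, one_ne_zero, ?_⟩
          simp only [map_add, LinearMap.add_apply, one_smul, p1, r1, h1, hA, map_zero, neg_zero, add_zero]
        · refine ⟨g p r, hA, ?_⟩
          simp only [map_add, LinearMap.add_apply, map_smul, LinearMap.smul_apply, map_smulₛₗ, smul_eq_mul, p1, r1, h1]
          ring
      obtain ⟨c, hc, hiso⟩ := key
      refine ⟨p + c • r, hiso, ?_, ?_, ?_⟩
      · rw [map_add, LinearMap.add_apply, p2, map_smul, LinearMap.smul_apply, r2, smul_zero, add_zero]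
      · rw [map_add, LinearMap.add_apply, p3, map_smul, LinearMap.smul_apply, hr, smul_zero, add_zero]
        exact one_ne_zero
      · rw [map_add, LinearMap.add_apply, hp, map_smul, LinearMap.smul_apply, r3, smul_eq_mul, mul_one, zero_add]
        exact hc
    · exact ⟨r, r1, r2, hr, by rw [r3]; exact one_ne_zero⟩
  · exact ⟨p, p1, p2, by rw [p3]; exact one_ne_zero, hp⟩

lemma exists_perp_iso (H : IsSkew g) (hd : 5 ≤ finrank F W) (a b : W) :
    ∃ e, e ≠ 0 ∧ g e e = 0 ∧ g e a = 0 ∧ g e b = 0 := by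
  have h1 := finrank_perpF_ge g (⊤ : Submodule F W) ![a, b]
  rw [finrank_top, Fintype.card_fin] at h1
  have h2 : 2 ≤ finrank F (perpF g ⊤ ![a, b]) := by omega
  obtain ⟨x, hx, hx0⟩ := Submodule.exists_mem_ne_zero_of_ne_bot (p := perpF g ⊤ ![a, b]) (by
    intro h
    rw [h, finrank_bot] at h2
    omega)
  obtain ⟨y, hy, hy0⟩ := exists_indep h2 x
  obtain ⟨c, d, hcd, hne⟩ := exists_iso_pair H x y
  have hmem : c • x + d • y ∈ perpF g ⊤ ![a, b] :=
    Submodule.add_mem _ (Submodule.smul_mem _ _ hx) (Submodule.smul_mem _ _ hy)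
  refine ⟨c • x + d • y, ?_, hcd, ?_, ?_⟩
  · intro h0
    have hli := pair_indep hx0 hy0
    rw [LinearIndependent.pair_iff] at hli
    obtain ⟨h3, h4⟩ := hli c d h0
    rcases hne with h | h
    · exact h h3
    · exact h h4
  · exact (mem_perpF.1 hmem).2 0
  · exact (mem_perpF.1 hmem).2 1

lemma not_span_of {e e1 f : W} (he1 : e1 ≠ 0) (h1 : g e1 f = 0) (h2 : g e f ≠ 0) : e1 ∉ Submodule.span F {e} := by
  intro h
  obtain ⟨c, rfl⟩ := Submodule.mem_span_singleton.1 h
  rw [map_smul, LinearMap.smul_apply, smul_eq_mul, mul_eq_zero] at h1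
  rcases h1 with h1 | h1
  · rw [h1, zero_smul] at he1; exact he1 rfl
  · exact h2 h1

/-- an isotropic vector orthogonal to an isotropic vector, independent of it -/
lemma exists_iso_perp (H : IsSkew g) (hd : 5 ≤ finrank F W) {w : W} (hw : g w w = 0) (hw0 : w ≠ 0) :
    ∃ e, g e e = 0 ∧ g e w = 0 ∧ e ∉ Submodule.span F {w} := by
  obtain ⟨f, hf, hfw⟩ := exists_hyp H hw hw0
  obtain ⟨e, he0, he, h1, h2⟩ := exists_perp_iso H hd w f
  refine ⟨e, he, h1, not_span_of he0 h2 ?_⟩
  intro h
  have := H.symm_zero h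
  rw [hfw] at this
  exact one_ne_zero this

/-- isotropic vectors in `w^⊥` span it -/
lemma span_iso_perp (H : IsSkew g) (hd : 5 ≤ finrank F W) {w : W} (hw : g w w = 0) (hw0 : w ≠ 0) (S : Submodule F W)
    (hS : ∀ f, g f f = 0 → g f w = 0 → f ∉ Submodule.span F {w} → f ∈ S) {z : W} (hz : g z w = 0) : z ∈ S := by
  obtain ⟨e, he, hew, hes⟩ := exists_iso_perp H hd hw hw0
  have heS := hS e he hew hes
  -- w itself
  have hwS : w ∈ S := by
    have h1 : w + e ∈ S := by
      apply hS
      · have : g w e = 0 := H.symm_zero hew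
        simp [hw, he, hew, this]
      · simp [hw, hew]
      · intro h
        apply hes
        have := Submodule.sub_mem _ h (Submodule.mem_span_singleton_self w)
        rwa [add_sub_cancel_left] at this
    have := S.sub_mem h1 heS
    rwa [add_sub_cancel_right] at this
  have hspan : ∀ f, f ∈ Submodule.span F {w} → f ∈ S := by
    intro f hf
    obtain ⟨c, rfl⟩ := Submodule.mem_span_singleton.1 hf
    exact S.smul_mem _ hwS
  have hS' : ∀ f, g f f = 0 → g f w = 0 → f ∈ S := by
    intro f h1 h2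
    by_cases h3 : f ∈ Submodule.span F {w}
    · exact hspan f h3
    · exact hS f h1 h2 h3
  have key : ∀ z, g z w = 0 → g z e ≠ 0 → z ∈ S := by
    intro z hzw hze
    obtain ⟨b, hb⟩ := iso_fix H he hze
    have h1 : z + b • e ∈ S := hS' _ hb (by
      rw [map_add, LinearMap.add_apply, hzw, map_smul, LinearMap.smul_apply, hew, smul_zero, add_zero])
    have := S.sub_mem h1 (S.smul_mem b heS)
    rwa [add_sub_cancel_right] at this
  by_cases hze : g z e = 0
  · obtain ⟨p, p1, p2, p3⟩ := exists_hyp2 H hw0 he hew hes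
    have h1 := key (z + p) (by rw [map_add, LinearMap.add_apply, hz, p2, add_zero]) (by
      rw [map_add, LinearMap.add_apply, hze, p3, zero_add]; exact one_ne_zero)
    have := S.sub_mem h1 (hS' p p1 p2)
    rwa [add_sub_cancel_right] at this
  · exact key z hz hze

lemma exists_noniso (H : IsSkew g) (hd : 5 ≤ finrank F W) {w f p : W} (hf : g f f = 0) (hfp : g f p ≠ 0) :
    ∃ k, g k k ≠ 0 ∧ g k w = 0 ∧ g k f = 0 ∧ g k p = 0 := by
  by_contra hcon
  push Not at hcon
  set X := perpF g ⊤ ![w, f, p] with hX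
  have hXm : ∀ x ∈ X, g x w = 0 ∧ g x f = 0 ∧ g x p = 0 := by
    intro x hx
    have h := (mem_perpF.1 hx).2
    exact ⟨h 0, h 1, h 2⟩
  have hXiso : ∀ x ∈ X, g x x = 0 := by
    intro x hx
    by_contra h
    obtain ⟨h1, h2, h3⟩ := hXm x hx
    exact hcon x h h1 h2 h3
  have h1 := finrank_perpF_ge g (⊤ : Submodule F W) ![w, f, p]
  rw [finrank_top, Fintype.card_fin, ← hX] at h1
  have hfX : f ∉ X := fun h => hfp (hXm f h).2.2
  have hlt : X < X ⊔ Submodule.span F {f} := by
    refine lt_of_le_of_ne le_sup_left ?_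
    intro h
    apply hfX
    rw [h]
    exact Submodule.mem_sup_right (Submodule.mem_span_singleton_self _)
  have h2 := Submodule.finrank_lt_finrank_of_lt hlt
  have h3 : ∀ y ∈ X ⊔ Submodule.span F {f}, g y y = 0 := by
    intro y hy
    obtain ⟨x, hx, z, hz, rfl⟩ := Submodule.mem_sup.1 hy
    obtain ⟨c, rfl⟩ := Submodule.mem_span_singleton.1 hz
    have h4 := (hXm x hx).2.1
    have h5 := H.symm_zero h4
    simp [hXiso x hx, hf, h4, h5, map_smulₛₗ]
  have h4 := ti_finrank_le H (top_nd H) (le_top : X ⊔ Submodule.span F {f} ≤ ⊤) (ti_of_iso H h3)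
  rw [finrank_top] at h4
  omega

/-- transitivity on isotropic vectors -/
theorem iso_trans (H : IsSkew g) (hd : 5 ≤ finrank F W) {x y : W} (hx : g x x = 0) (hx0 : x ≠ 0) (hy : g y y = 0)
    (hy0 : y ≠ 0) : ∃ b ∈ SU g, b x = y := by
  have step : ∀ x y : W, g x x = 0 → g y y = 0 → g x y = 1 → ∃ b ∈ TU g (⊤ : Submodule F W), b x = y := by
    intro x y hx hy hxy
    exact trans_step H trivial trivial (by rw [hx, hy]) (by rw [hx, hxy, sub_zero, map_one]) (by
      rw [hx, hxy, sub_zero]; exact one_ne_zero)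
  have step2 : ∀ x y z : W, g x x = 0 → g y y = 0 → g z z = 0 → g x z = 1 → g z y = 1 →
      ∃ b ∈ TU g (⊤ : Submodule F W), b x = y := by
    intro x y z hx hy hz h1 h2
    obtain ⟨b, hb, e1⟩ := step x z hx hz h1
    obtain ⟨b', hb', e2⟩ := step z y hz hy h2
    exact ⟨b' * b, Subgroup.mul_mem _ hb' hb, by rw [LinearEquiv.mul_apply, e1, e2]⟩
  have main : ∀ x y : W, g x x = 0 → x ≠ 0 → g y y = 0 → y ≠ 0 → y ∉ Submodule.span F {x} →
      ∃ b ∈ TU g (⊤ : Submodule F W), b x = y := by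
    intro x y hx hx0 hy hy0 hs
    by_cases hxy : g x y = 0
    · -- totally isotropic pair
      obtain ⟨u, -, hu⟩ := exists_dual H (top_nd H) (x := ![x, y]) (fun i => trivial) (pair_li hx0 hs) ![-1, 1]
      have h0 := hu 0
      have h1 := hu 1
      simp only [Matrix.cons_val_zero, Matrix.cons_val_one] at h0 h1
      obtain ⟨b, hb⟩ := iso_fix H hx (by rw [h0]; exact neg_ne_zero.2 one_ne_zero : g u x ≠ 0)
      refine step2 x y (u + b • x) hx hy hb ?_ ?_
      · rw [H.skew (u + b • x) x, map_add, LinearMap.add_apply, h0, map_smul, LinearMap.smul_apply, hx]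
        simp
      · rw [map_add, LinearMap.add_apply, h1, map_smul, LinearMap.smul_apply, hxy, smul_zero, add_zero]
    · -- hyperbolic pair
      have hyx : g y x ≠ 0 := fun h => hxy (H.symm_zero h)
      set u := (g x y)⁻¹ • x - (g y x)⁻¹ • y with hu
      have hux : g u x = -1 := by
        rw [hu, map_sub, LinearMap.sub_apply, map_smul, map_smul, LinearMap.smul_apply, LinearMap.smul_apply, hx,
          smul_zero, smul_eq_mul, inv_mul_cancel₀ hyx, zero_sub]
      have huy : g u y = 1 := by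
        rw [hu, map_sub, LinearMap.sub_apply, map_smul, map_smul, LinearMap.smul_apply, LinearMap.smul_apply, hy,
          smul_zero, smul_eq_mul, inv_mul_cancel₀ hxy, sub_zero]
      have h1 := finrank_perpF_ge g (⊤ : Submodule F W) ![x, y]
      rw [finrank_top, Fintype.card_fin] at h1
      obtain ⟨k, hk, hkk⟩ := exists_value H (top_nd H) (X := perpF g ⊤ ![x, y]) le_top (by
        rw [finrank_top]; omega) (s := - g u u) (by rw [map_neg, H.self])
      have hkx : g k x = 0 := (mem_perpF.1 hk).2 0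
      have hky : g k y = 0 := (mem_perpF.1 hk).2 1
      have hku : g k u = 0 := by
        rw [hu, map_sub, map_smulₛₗ, map_smulₛₗ, hkx, hky]; simp
      have huk : g u k = 0 := H.symm_zero hku
      refine step2 x y (u + k) hx hy ?_ ?_ ?_
      · simp [hku, huk, hkk]
      · rw [H.skew (u + k) x, map_add, LinearMap.add_apply, hux, hkx]
        simp
      · rw [map_add, LinearMap.add_apply, huy, hky, add_zero]
  by_cases hs : y ∈ Submodule.span F {x}
  · obtain ⟨f, hf, hfx⟩ := exists_hyp H hx hx0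
    have hf0 : f ≠ 0 := by rintro rfl; simp at hfx
    have hns : ∀ z : W, z ∈ Submodule.span F {x} → z ≠ 0 → f ∉ Submodule.span F {z} := by
      intro z hz hz0 h
      obtain ⟨c, rfl⟩ := Submodule.mem_span_singleton.1 hz
      obtain ⟨d, rfl⟩ := Submodule.mem_span_singleton.1 h
      simp [hx] at hfx
    have hxs : x ∈ Submodule.span F {x} := Submodule.mem_span_singleton_self _
    have hns' : ∀ z : W, z ∈ Submodule.span F {x} → z ≠ 0 → z ∉ Submodule.span F {f} := by
      intro z hz hz0 h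
      obtain ⟨d, rfl⟩ := Submodule.mem_span_singleton.1 h
      have hd0 : d ≠ 0 := by rintro rfl; simp at hz0
      apply hns x hxs hx0
      have := Submodule.smul_mem (Submodule.span F {x}) d⁻¹ hz
      rwa [smul_smul, inv_mul_cancel₀ hd0, one_smul] at this
    obtain ⟨b, hb, e1⟩ := main x f hx hx0 hf hf0 (hns x hxs hx0)
    obtain ⟨b', hb', e2⟩ := main f y hf hf0 hy hy0 (hns' y hs hy0)
    exact ⟨b' * b, TU_le_SU H _ (Subgroup.mul_mem _ hb' hb), by rw [LinearEquiv.mul_apply, e1, e2]⟩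
  · obtain ⟨b, hb, e1⟩ := main x y hx hx0 hy hy0 hs
    exact ⟨b, TU_le_SU H _ hb, e1⟩

end H95.TUG
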