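import Mathlib
import Cfsg.Agent.Lib.H95.TUB
import Cfsg.Agent.Lib.H95.TV9

set_option autoImplicit false
set_option linter.unusedSectionVars false
set_option linter.unusedVariables false
set_option linter.unusedSimpArgs false

/-!
The stabiliser of a `3 × 4` tensor decomposition in the special unitary group.
-/

namespace H95.TVB

open Module Cfsg Cfsg.Geo H95.Bridge H95.UBridge H7.Tens H95.NmTensU H95.TV H95.UBasic
open H95.TUB (exists_tps_det det_val det_one)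
open scoped Matrix MatrixGroups Kronecker

variable {ι : Type} [Fintype ι] [DecidableEq ι] {F : Type*} [Field F] {n₁ n₂ : ℕ}

/-- the tensor structure -/
theorem ts_of [Fintype F] {q n : ℕ} (hF : Fintype.card F = q ^ 2) {σ : F →+* F} (hσ : ∀ a, σ a = a ^ q)
    {h : (Fin n → F) →ₗ[F] (Fin n → F) →ₛₗ[σ] F} {ζ : F} (H : IsSkew h) (hζ : ζ ≠ 0) (hζσ : σ ζ = -ζ)
    (hh : ∀ u v, h u v = ζ * hermForm n F q u v) (hn₁ : 1 ≤ n₁) (hn₂ : 1 ≤ n₂)
    {f₁ : (Fin n₁ → F) → (Fin n₁ → F) → F} {f₂ : (Fin n₂ → F) → (Fin n₂ → F) → F} (hf₁ : IsUnitaryFormPow q f₁)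
    (hf₂ : IsUnitaryFormPow q f₂) {e : Fin n ≃ Fin n₁ × Fin n₂} {P : GL (Fin n) F}
    (hT : IsTensorFormStructure (fun x : F => x ^ q) (hermForm n F q) f₁ f₂ e P) :
    ∃ c : F, TS (sesq hσ f₁ hf₁) (c • sesq hσ f₂ hf₂) h (tau e P) := by
  obtain ⟨c, hc, hcf⟩ := form_tau_u hσ hf₁ hf₂ hT
  have ne1 : ∀ {m : ℕ} {f : (Fin m → F) → (Fin m → F) → F} (hf : IsUnitaryFormPow q f), 1 ≤ m → ∃ x y, f x y ≠ 0 := by
    intro m f hf hm
    have : Nonempty (Fin m) := ⟨⟨0, hm⟩⟩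
    obtain ⟨y, hy⟩ := (hf.nondegenerate (fun _ => 1) (fun h0 => one_ne_zero (congrFun h0 ⟨0, hm⟩))).2
    exact ⟨_, y, hy⟩
  have hcσ : σ c = c := by
    obtain ⟨x, y, hxy⟩ := ne1 hf₁ hn₁
    obtain ⟨z, w, hzw⟩ := ne1 hf₂ hn₂
    have h1 := hcf x z y w
    have h2 := hcf y w x z
    have h3 := H.skew (tau e P x z) (tau e P y w)
    rw [hh, hh, map_mul, hζσ, h1, h2, map_mul, map_mul, hσ (f₁ x y), hσ (f₂ z w), ← hf₁.herm, ← hf₂.herm] at h3
    have h4 : f₁ y x ≠ 0 := by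
      intro h0
      rw [hf₁.herm, h0, zero_pow (by have := one_lt_q hF; omega)] at hxy
      exact hxy rfl
    have h5 : f₂ w z ≠ 0 := by
      intro h0
      rw [hf₂.herm, h0, zero_pow (by have := one_lt_q hF; omega)] at hzw
      exact hzw rfl
    have h6 : (ζ * (f₁ y x * f₂ w z)) * (c - σ c) = 0 := by linear_combination h3
    have h7 := (mul_eq_zero.1 h6).resolve_left (mul_ne_zero hζ (mul_ne_zero h4 h5))
    exact (sub_eq_zero.1 h7).symm
  refine ⟨ζ * c, ⟨⟨sigma_inv hF hσ, ?_⟩, ?_, ⟨sigma_inv hF hσ, sigma_ne hF hσ, sigma_norm hF hσ, ?_, ?_⟩, H, ?_, ?_⟩⟩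
  · intro v hv
    by_contra hv0
    obtain ⟨x, hx⟩ := (hf₁.nondegenerate v hv0).2
    exact hx (hv x)
  · intro x y
    rw [sesq_apply, sesq_apply, hσ, ← hf₁.herm]
  · intro x y
    change ζ * c * f₂ y x = - σ (ζ * c * f₂ x y)
    rw [map_mul, map_mul, hζσ, hcσ, hσ, ← hf₂.herm]
    ring
  · intro v hv
    by_contra hv0
    obtain ⟨x, hx⟩ := (hf₂.nondegenerate v hv0).2
    have h1 : ζ * c * f₂ v x = 0 := hv x
    exact hx ((mul_eq_zero.1 h1).resolve_left (mul_ne_zero hζ hc))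
  · intro S hS
    rw [eq_top_iff, ← span_tau e P, Submodule.span_le]
    rintro _ ⟨a, b, rfl⟩
    exact hS a b
  · intro u w u' w'
    rw [hh, hcf]
    change _ = f₁ u u' * (ζ * c * f₂ w w')
    ring

theorem tensor_max34 [Fintype F] (n q : ℕ) (hF : Fintype.card F = q ^ 2) (n₁ n₂ : ℕ) (h1 : n₁ = 3)
    (hn₂ : n₂ = 4) (e : Fin n ≃ Fin n₁ × Fin n₂) (P : Matrix.GeneralLinearGroup (Fin n) F)
    (f₁ : (Fin n₁ → F) → (Fin n₁ → F) → F) (f₂ : (Fin n₂ → F) → (Fin n₂ → F) → F)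
    (hf₁ : Cfsg.Geo.IsUnitaryFormPow q f₁) (hf₂ : Cfsg.Geo.IsUnitaryFormPow q f₂)
    (hT : Cfsg.Geo.IsTensorFormStructure (fun x : F => x ^ q) (Cfsg.hermForm n F q) f₁ f₂ e P) :
    Cfsg.Geo.IsMaximalIn (Cfsg.GU n F q ⊓ Cfsg.Geo.specialLinear (Fin n) F)
      (Cfsg.Geo.tensorProductSubgroup n₁ n₂ e P ⊓ (Cfsg.GU n F q ⊓ Cfsg.Geo.specialLinear (Fin n) F)) := by
  obtain ⟨σ, h, ζ, H, hζ, hσ, hζσ, hh⟩ := exists_form n hF
  have hmem := mem_SUn hζ hh
  obtain ⟨c, hTS⟩ := ts_of hF hσ H hζ hζσ hh (by omega) (by omega) hf₁ hf₂ hT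
  have hcard := Fintype.card_congr e
  rw [Fintype.card_prod, Fintype.card_fin, Fintype.card_fin, Fintype.card_fin] at hcard
  have hn : 7 ≤ n := by
    rw [h1, hn₂] at hcard
    omega
  have hfU : finrank F (Fin n₁ → F) = n₁ := by rw [finrank_fintype_fun_eq_card, Fintype.card_fin]
  have hfW : finrank F (Fin n₂ → F) = n₂ := by rw [finrank_fintype_fun_eq_card, Fintype.card_fin]
  have hfV : finrank F (Fin n → F) = n := by rw [finrank_fintype_fun_eq_card, Fintype.card_fin]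
  have hexx : (∃ c : F, σ c = c ∧ c ≠ 0 ∧ c ≠ 1) ∨ 3 ≤ finrank F (Fin n₁ → F) := by
    right
    omega
  have hKr : ∀ g : GL (Fin n) F, g ∈ tensorProductSubgroup n₁ n₂ e P ↔ toEq _ F g ∈ KrG (tau e P) := by
    intro g
    constructor
    · intro hg
      exact mem_tps hg
    · rintro ⟨a, b, hab⟩
      obtain ⟨g', hg', e'⟩ := exists_tps e P ((toEq _ F).symm a) ((toEq _ F).symm b)
      simp only [MulEquiv.apply_symm_apply] at e'
      have h2 : (toEq _ F g).toLinearMap = (toEq _ F g').toLinearMap := hTS.ext (fun u w => by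
        rw [LinearEquiv.coe_coe, LinearEquiv.coe_coe, hab, e'])
      have h3 : toEq _ F g = toEq _ F g' := LinearEquiv.toLinearMap_injective h2
      rw [(toEq _ F).injective h3]
      exact hg'
  apply isMaximalIn_of
  · obtain ⟨x, hx, hxk⟩ := exists_not_kr hTS (by omega) (by omega)
    refine ⟨(toEq _ F).symm x, ?_, ?_⟩
    · rw [hmem, MulEquiv.apply_symm_apply]; exact hx
    · rw [hKr, MulEquiv.apply_symm_apply]; exact hxk
  · rintro M hM1 hM2 ⟨g, hg, hg'⟩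
    have hMle : M.map (toEq (Fin n) F).toMonoidHom ≤ SU h := by
      rintro _ ⟨x, hx, rfl⟩
      exact (hmem x).1 (hM2 hx)
    have hgen : ∀ (A : (Fin n₁ → F) ≃ₗ[F] (Fin n₁ → F)) (B : (Fin n₂ → F) ≃ₗ[F] (Fin n₂ → F)), A ∈ SU (sesq hσ f₁ hf₁) →
        B ∈ SU (c • sesq hσ f₂ hf₂) → ∃ x ∈ M.map (toEq (Fin n) F).toMonoidHom, ∀ u w, x (tau e P u w) = tau e P (A u) (B w) := by
      intro A B hA hB
      obtain ⟨g, hg, e1, e2⟩ := exists_tps_det e P ((toEq _ F).symm A) ((toEq _ F).symm B)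
      simp only [MulEquiv.apply_symm_apply] at e1
      rw [det_val A hA.2, det_val B hB.2, one_pow, one_pow, one_mul] at e2
      refine ⟨toEq _ F g, ⟨g, hM1 ⟨hg, ?_⟩, rfl⟩, e1⟩
      change g ∈ GU n F q ⊓ specialLinear (Fin n) F
      rw [hmem, mem_SU]
      exact ⟨pure_isom hTS (SU_le _ hA) (SU_le _ hB) e1, det_one e2⟩
    have hX : HX hTS (M.map (toEq (Fin n) F).toMonoidHom) := by
      refine ⟨hMle.trans (SU_le h), ?_, ?_⟩
      · intro b hb
        obtain ⟨x, hx, e⟩ := hgen 1 b (Subgroup.one_mem _) hb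
        exact ⟨x, hx, fun u w => e u w⟩
      · intro a ha
        obtain ⟨x, hx, e⟩ := hgen a 1 ha (Subgroup.one_mem _)
        exact ⟨x, hx, fun u w => e u w⟩
    rcases dichotomy hX (by omega) (by omega) (by omega) (by omega) (by omega) (by omega) hexx with h2 | h2
    · exact le_of_map hmem h2
    · exact absurd ((hKr g).2 (h2 ⟨g, hg, rfl⟩)) hg'

end H95.TVB
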